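import Cfsg.Agent.Lib.Weil.LowerBound

/-!
The orbit of a symmetric form of rank at least two under the linear group.
-/

set_option autoImplicit false

open Matrix Module Polynomial
open Cfsg.Agent.Weil (formOrbit)

namespace Cfsg.Agent.WeilUniq

variable {F : Type*} [Field F] [Fintype F]

theorem exists_binary (h2 : (2 : F) ≠ 0) {a d : F} (ha : a ≠ 0) (hd : d ≠ 0) (t : F) :
    ∃ x y : F, a * (x * x) + d * (y * y) = t := by
  classical
  have hodd : Fintype.card F % 2 = 1 := FiniteField.odd_card_of_char_ne_two fun hc => h2 (by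
    have := ringChar.Nat.cast_ringChar (R := F)
    rw [hc] at this
    exact_mod_cast this)
  obtain ⟨x, y, h⟩ := FiniteField.exists_root_sum_quadratic
    (f := C a * X ^ 2) (g := C d * X ^ 2 - C t) (degree_C_mul_X_pow 2 ha)
    (by
      have hg : degree (C d * X ^ 2) = ((2 : ℕ) : WithBot ℕ) := degree_C_mul_X_pow 2 hd
      rw [degree_sub_eq_left_of_degree_lt (lt_of_le_of_lt degree_C_le (by rw [hg]; norm_num)), hg]
      rfl) hodd
  simp only [eval_mul, eval_sub, eval_C, eval_pow, eval_X] at h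
  exact ⟨x, y, by linear_combination h⟩

variable {n : ℕ} {B : (Fin n → F) →ₗ[F] (Fin n → F) →ₗ[F] F}

theorem card_isotropic_ge (h2 : (2 : F) ≠ 0) (hs : ∀ x y, B x y = B y x) {u h : Fin n → F}
    (hu : B u u ≠ 0) (huh : B u h = 0) (hh : B h h ≠ 0) :
    Fintype.card F ^ (n - 2) ≤ Nat.card {x // B x x = 0} := by
  classical
  let C := LinearMap.ker (B u) ⊓ LinearMap.ker (B h)
  have hC : n - 2 ≤ finrank F C := by
    have h1 := Submodule.finrank_sup_add_finrank_inf_eq (LinearMap.ker (B u)) (LinearMap.ker (B h))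
    have h2' := Submodule.finrank_le (LinearMap.ker (B u) ⊔ LinearMap.ker (B h))
    have hu' : B u ≠ 0 := fun e => hu (by rw [e, LinearMap.zero_apply])
    have hh' : B h ≠ 0 := fun e => hh (by rw [e, LinearMap.zero_apply])
    have e1 := Module.Dual.finrank_ker_add_one_of_ne_zero hu'
    have e2 := Module.Dual.finrank_ker_add_one_of_ne_zero hh'
    rw [Module.finrank_fin_fun] at h2' e1 e2
    show n - 2 ≤ finrank F ↥(LinearMap.ker (B u) ⊓ LinearMap.ker (B h))
    omega
  choose s t hst using fun w : C => exists_binary h2 hu hh (-(B w.1 w.1))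
  have hmem : ∀ w : C, B u w = 0 ∧ B h w = 0 := fun w => ⟨LinearMap.mem_ker.1 w.2.1, LinearMap.mem_ker.1 w.2.2⟩
  let f : C → {x // B x x = 0} := fun w => ⟨w.1 + s w • u + t w • h, by
    simp only [map_add, map_smul, LinearMap.add_apply, LinearMap.smul_apply, smul_eq_mul, hs w.1 u, hs w.1 h,
      hs h u, (hmem w).1, (hmem w).2, huh]
    linear_combination hst w⟩
  have hrec : ∀ w, (f w).1 - ((B u u)⁻¹ * B u (f w).1) • u - ((B h h)⁻¹ * B h (f w).1) • h = w.1 := by
    intro w
    simp only [f, map_add, map_smul, smul_eq_mul, hs h u, huh, (hmem w).1, (hmem w).2, mul_zero, zero_add,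
      add_zero, mul_comm (s w) (B u u), mul_comm (t w) (B h h), inv_mul_cancel_left₀ hu, inv_mul_cancel_left₀ hh]
    abel
  calc Fintype.card F ^ (n - 2) ≤ Fintype.card F ^ finrank F C := Nat.pow_le_pow_right Fintype.card_pos hC
    _ = Nat.card C := by rw [Module.natCard_eq_pow_finrank (K := F), Nat.card_eq_fintype_card]
    _ ≤ _ := Nat.card_le_card_of_injective f fun a b e => Subtype.ext (by rw [← hrec a, e, hrec b])

theorem formOrbit_comp {f : (Fin n → F) → (Fin n → F) → F} (hf : f ∈ formOrbit B)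
    (A : (Fin n → F) ≃ₗ[F] (Fin n → F)) : (fun x y => f (A x) (A y)) ∈ formOrbit B := by
  obtain ⟨A', rfl⟩ := hf
  exact ⟨A.trans A', rfl⟩

theorem exists_equiv_of_ne {x u : Fin n → F} (hx : x ≠ 0) (hu : u ≠ 0) :
    ∃ A : (Fin n → F) ≃ₗ[F] (Fin n → F), A u = x := by
  obtain ⟨k, hk⟩ := Function.ne_iff.1 hu
  obtain ⟨l, hl⟩ := Function.ne_iff.1 hx
  obtain ⟨A, hA, -⟩ := Weil.exists_move (r := (u k)⁻¹ • LinearMap.proj k) (l := (x l)⁻¹ • LinearMap.proj l)
    (e := u) (u := x) one_ne_zero (inv_mul_cancel₀ hk) (inv_mul_cancel₀ hl)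
  exact ⟨A, hA⟩

theorem card_through (h2 : (2 : F) ≠ 0) (hn : 2 ≤ n) (hs : ∀ x y, B x y = B y x) {u h : Fin n → F}
    (hu : B u u ≠ 0) (huh : B u h = 0) (hh : B h h ≠ 0) :
    (Fintype.card F ^ n - Fintype.card F ^ (n - 1)) * ((Fintype.card F ^ (n - 1) - 1) / 2) ≤
      Nat.card {f : formOrbit B // f.1 u u ≠ 0} := by
  classical
  let S := {r : Module.Dual F (Fin n → F) // r u ≠ 0}
  haveI : Finite (Module.Dual F (Fin n → F)) := Module.finite_of_finite F
  have hS : Fintype.card F ^ n - Fintype.card F ^ (n - 1) = Nat.card S := by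
    haveI : Fintype (Module.Dual F (Fin n → F)) := Fintype.ofFinite _
    have hne : (Module.Dual.eval F (Fin n → F) u) ≠ 0 := fun h0 => hu (DFunLike.congr_fun h0 (B u))
    have h1 := Module.Dual.finrank_ker_add_one_of_ne_zero hne
    rw [Subspace.dual_finrank_eq, Module.finrank_fin_fun] at h1
    have hk : Nat.card {r : Module.Dual F (Fin n → F) // r u = 0} = Fintype.card F ^ (n - 1) := by
      rw [show n - 1 = finrank F (LinearMap.ker (Module.Dual.eval F (Fin n → F) u)) by omega,
        ← Nat.card_eq_fintype_card (α := F), ← Module.natCard_eq_pow_finrank (K := F)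
          (V := LinearMap.ker (Module.Dual.eval F (Fin n → F) u))]
      exact Nat.card_congr (Equiv.subtypeEquivRight fun r => by simp [LinearMap.mem_ker])
    have hd : Nat.card (Module.Dual F (Fin n → F)) = Fintype.card F ^ n := by
      rw [Module.natCard_eq_pow_finrank (K := F), Subspace.dual_finrank_eq, Module.finrank_fin_fun,
        Nat.card_eq_fintype_card]
    have := Nat.card_congr (Equiv.sumCompl fun r : Module.Dual F (Fin n → F) => r u = 0)
    rw [Nat.card_sum, hk, hd] at this
    show _ = Nat.card {r : Module.Dual F (Fin n → F) // ¬ r u = 0}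
    omega
  have hdata : ∀ r : S, ∃ (A : (Fin n → F) ≃ₗ[F] (Fin n → F))
      (e : (Fin (n - 1) → F) ≃ₗ[F] LinearMap.ker r.1), (∀ y, B (A u) (A y) = r.1 y) ∧
      ∃ x y, B (A (e x)) (A (e y)) ≠ 0 := by
    rintro ⟨r, hr⟩
    obtain ⟨p, q, hpq⟩ := exists_binary h2 hu hh (r u)
    set v := p • u + q • h with hv
    have hvv : B v v = r u := by
      simp only [hv, map_add, map_smul, LinearMap.add_apply, LinearMap.smul_apply, smul_eq_mul, hs h u, huh]
      linear_combination hpq
    obtain ⟨A, hAu, hAr⟩ := Weil.exists_move (r := r) (l := B v) (e := u) (u := v) hr rfl hvv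
    have hrn : r ≠ 0 := fun e => hr (by rw [e, LinearMap.zero_apply])
    have hk := Module.Dual.finrank_ker_add_one_of_ne_zero hrn
    rw [Module.finrank_fin_fun] at hk
    let e : (Fin (n - 1) → F) ≃ₗ[F] LinearMap.ker r :=
      LinearEquiv.ofFinrankEq _ _ (by rw [Module.finrank_fin_fun]; omega)
    refine ⟨A, e, fun y => by rw [hAu, hAr], ?_⟩
    by_contra hzero
    push Not at hzero
    let l : Module.Dual F (Fin n → F) := r ∘ₗ A.symm.toLinearMap
    have hrank : ∀ x y, B x y = (r u)⁻¹ * (l x * l y) := by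
      intro x y
      let px := A.symm x - ((r u)⁻¹ * r (A.symm x)) • u
      let py := A.symm y - ((r u)⁻¹ * r (A.symm y)) • u
      have hpx : px ∈ LinearMap.ker r := by
        simp only [LinearMap.mem_ker, px, map_sub, map_smul, smul_eq_mul]; field_simp; ring
      have hpy : py ∈ LinearMap.ker r := by
        simp only [LinearMap.mem_ker, py, map_sub, map_smul, smul_eq_mul]; field_simp; ring
      have := hzero (e.symm ⟨px, hpx⟩) (e.symm ⟨py, hpy⟩)
      simp only [LinearEquiv.apply_symm_apply, px, py, map_sub, map_smul, LinearEquiv.apply_symm_apply,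
        LinearMap.sub_apply, LinearMap.smul_apply, smul_eq_mul, hAu, hvv] at this
      have e1 : B x v = r (A.symm x) := by rw [hs, ← hAr, LinearEquiv.apply_symm_apply]
      have e2 : B v y = r (A.symm y) := by rw [← hAr, LinearEquiv.apply_symm_apply]
      rw [e1, e2] at this
      show B x y = (r u)⁻¹ * (r (A.symm x) * r (A.symm y))
      field_simp at this ⊢
      linear_combination this
    have e1 := hrank u u
    have e2 := hrank u h
    have e3 := hrank h h
    rw [huh] at e2
    have : B u u * B h h = 0 := by rw [e1, e3]; linear_combination (-(r u)⁻¹ * (l u * l h)) * e2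
    exact mul_ne_zero hu hh this
  choose A e hA hne using hdata
  let Bres : S → (Fin (n - 1) → F) →ₗ[F] (Fin (n - 1) → F) →ₗ[F] F := fun r =>
    B.compl₁₂ ((A r).toLinearMap ∘ₗ (LinearMap.ker r.1).subtype ∘ₗ (e r).toLinearMap)
      ((A r).toLinearMap ∘ₗ (LinearMap.ker r.1).subtype ∘ₗ (e r).toLinearMap)
  have hBres : ∀ r x y, Bres r x y = B (A r (e r x)) (A r (e r y)) := fun r x y => rfl
  have hcount : ∀ r, (Fintype.card F ^ (n - 1) - 1) / 2 ≤ Nat.card (formOrbit (Bres r)) := fun r => by
    refine Weil.card_formOrbit h2 (Bres r) (fun x y => by rw [hBres, hBres, hs]) fun h0 => ?_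
    obtain ⟨x, y, hxy⟩ := hne r
    exact hxy (by rw [← hBres, h0]; rfl)
  have hfull : ∀ (r : S) (φ : formOrbit (Bres r)), ∃ f : formOrbit B, (∀ y, f.1 u y = r.1 y) ∧
      ∀ x y, f.1 (e r x : Fin n → F) (e r y : Fin n → F) = φ.1 x y := by
    rintro r ⟨_, A', rfl⟩
    let pr : (Fin n → F) →ₗ[F] LinearMap.ker r.1 :=
      LinearMap.codRestrict _ (LinearMap.id - ((r.1 u)⁻¹ • r.1).smulRight u) fun y => by
        simp [mul_comm _ (r.1 u), mul_inv_cancel_left₀ r.2]
    have hpr : ∀ y, (pr y : Fin n → F) = y - ((r.1 u)⁻¹ * r.1 y) • u := fun y => rfl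
    let A₁ : (Fin n → F) →ₗ[F] (Fin n → F) :=
      ((r.1 u)⁻¹ • r.1).smulRight u + (LinearMap.ker r.1).subtype ∘ₗ
        ((e r).toLinearMap ∘ₗ A'.toLinearMap ∘ₗ (e r).symm.toLinearMap ∘ₗ pr)
    have hA1 : ∀ y, A₁ y = ((r.1 u)⁻¹ * r.1 y) • u + (e r (A' ((e r).symm (pr y))) : Fin n → F) := fun y => rfl
    have hru : ∀ y, r.1 (A₁ y) = r.1 y := fun y => by
      rw [hA1, map_add, map_smul, smul_eq_mul, LinearMap.mem_ker.1 (e r (A' ((e r).symm (pr y)))).2, add_zero,
        mul_comm, mul_inv_cancel_left₀ r.2]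
    have hinj : Function.Injective A₁ := by
      rw [injective_iff_map_eq_zero]
      intro y hy
      have h0 : r.1 y = 0 := by rw [← hru, hy, map_zero]
      rw [hA1, h0, mul_zero, zero_smul, zero_add, ZeroMemClass.coe_eq_zero, LinearEquiv.map_eq_zero_iff,
        LinearEquiv.map_eq_zero_iff, LinearEquiv.map_eq_zero_iff] at hy
      have := congrArg Subtype.val hy
      rw [hpr, h0, mul_zero, zero_smul, sub_zero] at this
      exact this
    let A₂ := LinearEquiv.ofInjectiveEndo A₁ hinj
    refine ⟨⟨_, A₂.trans (A r), rfl⟩, fun y => ?_, fun x y => ?_⟩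
    · show B (A r (A₁ u)) (A r (A₁ y)) = _
      have hu1 : A₁ u = u := by
        rw [hA1, inv_mul_cancel₀ r.2, one_smul]
        have : pr u = 0 := Subtype.ext (by rw [hpr, inv_mul_cancel₀ r.2, one_smul, sub_self]; rfl)
        rw [this]; simp
      rw [hu1, hA, hru]
    · show B (A r (A₁ (e r x))) (A r (A₁ (e r y))) = Bres r (A' x) (A' y)
      have hk : ∀ x, A₁ (e r x) = (e r (A' x) : Fin n → F) := fun x => by
        have h0 : r.1 (e r x : Fin n → F) = 0 := LinearMap.mem_ker.1 (e r x).2
        have : pr (e r x) = e r x := Subtype.ext (by rw [hpr, h0, mul_zero, zero_smul, sub_zero])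
        rw [hA1, h0, mul_zero, zero_smul, zero_add, this, LinearEquiv.symm_apply_apply]
      rw [hk, hk, hBres]
  choose f hfu hfr using hfull
  let Φ : (Σ r : S, formOrbit (Bres r)) → {f : formOrbit B // f.1 u u ≠ 0} := fun x =>
    ⟨f x.1 x.2, by rw [hfu]; exact x.1.2⟩
  have hΦ : Function.Injective Φ := by
    rintro ⟨r, φ⟩ ⟨r', φ'⟩ he
    have he' : (f r φ).1 = (f r' φ').1 := congrArg Subtype.val (congrArg Subtype.val he)
    have hrr : r = r' := Subtype.ext (LinearMap.ext fun y => by rw [← hfu r φ, ← hfu r' φ', he'])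
    subst hrr
    have : φ = φ' := Subtype.ext (funext fun x => funext fun y => by rw [← hfr r φ, ← hfr r φ', he'])
    rw [this]
  haveI : Fintype S := Fintype.ofFinite _
  calc _ = ∑ _r : S, (Fintype.card F ^ (n - 1) - 1) / 2 := by
        rw [Finset.sum_const, Finset.card_univ, smul_eq_mul, hS, Nat.card_eq_fintype_card]
    _ ≤ ∑ r : S, Nat.card (formOrbit (Bres r)) := Finset.sum_le_sum fun r _ => hcount r
    _ = Nat.card (Σ r : S, formOrbit (Bres r)) := Nat.card_sigma.symm
    _ ≤ _ := Nat.card_le_card_of_injective Φ hΦ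

/-- The orbit of a form of rank at least two. -/
theorem card_formOrbit_two (hn : 2 ≤ n) (h2 : (2 : F) ≠ 0) (hs : ∀ x y, B x y = B y x) {u h : Fin n → F}
    (hu : B u u ≠ 0) (huh : B u h = 0) (hh : B h h ≠ 0) :
    (Fintype.card F ^ n - 1) * (Fintype.card F ^ n - Fintype.card F) ≤
      2 * (Fintype.card F + 1) * Nat.card (formOrbit B) := by
  classical
  let : Fintype (formOrbit B) := Fintype.ofFinite _
  have hu0 : u ≠ 0 := fun e => hu (by simp [e])
  set m := (Finset.univ.filter fun x : Fin n → F => B x x ≠ 0).card with hm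
  set K := (Finset.univ.filter fun f : formOrbit B => f.1 u u ≠ 0).card with hK
  have hrow : ∀ f : formOrbit B, (Finset.univ.filter fun x : Fin n → F => f.1 x x ≠ 0).card = m := by
    rintro ⟨_, A, rfl⟩
    exact Finset.card_equiv A.toEquiv fun x => by simp
  have hcol : ∀ x : Fin n → F, x ≠ 0 →
      (Finset.univ.filter fun f : formOrbit B => f.1 x x ≠ 0).card = K := by
    intro x hx
    obtain ⟨A, hA⟩ := exists_equiv_of_ne hx hu0
    refine Finset.card_bij' (fun f _ => ⟨_, formOrbit_comp f.2 A⟩) (fun f _ => ⟨_, formOrbit_comp f.2 A.symm⟩)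
      (fun f hf => ?_) (fun f hf => ?_) (fun f _ => ?_) (fun f _ => ?_)
    · simpa [hA] using hf
    · simpa [← hA] using hf
    · exact Subtype.ext (funext fun a => funext fun b => by simp)
    · exact Subtype.ext (funext fun a => funext fun b => by simp)
  have hdc := Finset.sum_card_bipartiteAbove_eq_sum_card_bipartiteBelow
    (s := (Finset.univ : Finset (formOrbit B))) (t := (Finset.univ : Finset (Fin n → F)))
    (fun f x => f.1 x x ≠ 0)
  simp only [Finset.bipartiteAbove, Finset.bipartiteBelow, hrow, Finset.sum_const, Finset.card_univ,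
    smul_eq_mul] at hdc
  rw [← Finset.sum_erase_add _ _ (Finset.mem_univ (0 : Fin n → F)), Finset.sum_congr rfl (g := fun _ => K)
    (fun x hx => hcol x (Finset.ne_of_mem_erase hx)), Finset.sum_const, smul_eq_mul,
    Finset.card_erase_of_mem (Finset.mem_univ _), Finset.card_univ, Fintype.card_fun, Fintype.card_fin,
    Finset.card_eq_zero.2 (Finset.filter_eq_empty_iff.2 fun f _ => by
      obtain ⟨_, A, rfl⟩ := f; simp), add_zero] at hdc
  have hiso := card_isotropic_ge h2 hs hu huh hh
  rw [Nat.card_eq_fintype_card, Fintype.card_subtype] at hiso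
  have htot := Finset.card_filter_add_card_filter_not (s := (Finset.univ : Finset (Fin n → F)))
    (fun x => B x x = 0)
  rw [Finset.card_univ, Fintype.card_fun, Fintype.card_fin] at htot
  have htot' : (Finset.univ.filter fun x : Fin n → F => B x x = 0).card + m = Fintype.card F ^ n := htot
  have hth := card_through h2 hn hs hu huh hh
  rw [Nat.card_eq_fintype_card, Fintype.card_subtype, ← hK] at hth
  rw [Nat.card_eq_fintype_card]
  obtain ⟨d, rfl⟩ : ∃ d, n = d + 2 := ⟨n - 2, by omega⟩
  simp only [Nat.add_sub_cancel, show d + 2 - 1 = d + 1 by omega] at hth hiso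
  have hq := Fintype.one_lt_card (α := F)
  set q := Fintype.card F
  have hodd : q % 2 = 1 := FiniteField.odd_card_of_char_ne_two fun hc => h2 (by
    have := ringChar.Nat.cast_ringChar (R := F)
    rw [hc] at this
    exact_mod_cast this)
  obtain ⟨a, ha⟩ : ∃ a, q = a + 1 := ⟨q - 1, by omega⟩
  set b := q ^ d with hb
  have hb0 : 0 < b := Nat.pow_pos (by omega)
  have p1 : q ^ (d + 1) = b * q := pow_succ q d
  have p2 : q ^ (d + 2) = b * q * q := by rw [pow_succ, pow_succ]
  rw [p1, p2] at hth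
  rw [p2] at htot' hdc ⊢
  obtain ⟨k, hk⟩ : ∃ k, b * q = 2 * k + 1 := ⟨b * q / 2, by
    have : (b * q) % 2 = 1 := by rw [← p1, Nat.pow_mod, hodd]; simp
    omega⟩
  rw [hk, Nat.add_sub_cancel, Nat.mul_div_cancel_left k two_pos] at hth
  set N := Fintype.card (formOrbit B)
  obtain ⟨X, hX⟩ : ∃ X, b * q * q = X + 1 := ⟨b * q * q - 1, by
    have : 0 < b * q * q := by positivity
    omega⟩
  have e1 : (2 * k + 1) * q - (2 * k + 1) = (2 * k + 1) * a := by
    rw [ha, Nat.mul_succ]; simp
  have e2 : b * q * q - q = q * (2 * k) := by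
    rw [hk]; have : (2 * k + 1) * q = q * (2 * k) + q := by ring
    omega
  rw [e1] at hth
  rw [hX, Nat.add_sub_cancel] at hdc
  rw [e2, show b * q * q - 1 = X by omega]
  have hm' : m ≤ b * (a * (a + 2)) := by
    have h3 : b * q * q = b + b * (a * (a + 2)) := by rw [ha]; ring
    omega
  -- combine
  have h4 : X * ((2 * k + 1) * a * k) ≤ X * K := Nat.mul_le_mul_left X hth
  have h5 : N * m ≤ N * (b * (a * (a + 2))) := Nat.mul_le_mul_left N hm'
  have h6 : X * ((2 * k + 1) * a * k) ≤ N * (b * (a * (a + 2))) := h4.trans (hdc ▸ h5)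
  have h7 : (b * a) * (X * (q * k)) ≤ (b * a) * ((q + 1) * N) := by
    rw [ha] at hk ⊢
    calc (b * a) * (X * ((a + 1) * k)) = X * ((2 * k + 1) * a * k) := by rw [← hk]; ring
      _ ≤ N * (b * (a * (a + 2))) := h6
      _ = _ := by ring
  have h8 := Nat.le_of_mul_le_mul_left h7 (Nat.mul_pos hb0 (by omega))
  calc X * (q * (2 * k)) = 2 * (X * (q * k)) := by ring
    _ ≤ 2 * ((q + 1) * N) := Nat.mul_le_mul_left 2 h8
    _ = _ := by ring

end Cfsg.Agent.WeilUniq
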