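import Cfsg.Agent.Lib.WeilUniq.Closure
import Cfsg.Agent.Lib.WeilUniq.Orbit
import Cfsg.Agent.Lib.Char.Basic
import Mathlib.NumberTheory.LegendreSymbol.QuadraticChar.Basic

/-!
Representations of small degree of the symplectic group are determined by the class and the sign of a
weight vector.
-/

set_option autoImplicit false

open Matrix Module
open Cfsg.Agent.Weil (SymMat symElt formOrbit)

namespace Cfsg.Agent.WeilUniq

variable {F : Type*} [Field F] [Fintype F] {n : ℕ} {U : Type*} [AddCommGroup U] [Module ℂ U]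
  {ρ : Representation ℂ (Matrix.symplecticGroup (Fin n) F) U} {ψ : AddChar F ℂ}

theorem symElt_single (k l : Fin n) (t : F) :
    symElt (Pi.single k 1) (Pi.single l 1) t = offd k l t := by
  refine Subtype.ext ?_
  show t • (vecMulVec _ _ + vecMulVec _ _) = single k l t + single l k t
  rw [smul_add]
  congr 1 <;> ext a b
  · rcases eq_or_ne k a with rfl | ha <;> rcases eq_or_ne l b with rfl | hb <;>
      simp [vecMulVec_apply, Matrix.single_apply, *, Ne.symm]
  · rcases eq_or_ne l a with rfl | ha <;> rcases eq_or_ne k b with rfl | hb <;>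
      simp [vecMulVec_apply, Matrix.single_apply, *, Ne.symm]

theorem cS_symElt (M : Matrix (Fin n) (Fin n) F) (x y : Fin n → F) (t : F) :
    cS M (symElt x y t) = symElt (Mᵀ *ᵥ x) (Mᵀ *ᵥ y) t := by
  refine Subtype.ext ?_
  show Mᵀ * (t • (_ + _)) * M = t • (_ + _)
  rw [Matrix.mul_smul, Matrix.smul_mul, Matrix.mul_add, Matrix.add_mul, Matrix.mul_vecMulVec,
    Matrix.mul_vecMulVec, Matrix.vecMulVec_mul, Matrix.vecMulVec_mul, ← mulVec_transpose, ← mulVec_transpose]

theorem offd_ext (h2 : (2 : F) ≠ 0) {φ φ' : AddChar (SymMat F n) ℂ}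
    (h : ∀ k l t, φ (offd k l t) = φ' (offd k l t)) : φ = φ' := by
  refine DFunLike.ext _ _ fun S => ?_
  have hS : S = ∑ k, ∑ l, offd k l (2⁻¹ * S.1 k l) := by
    refine Subtype.ext ?_
    simp only [AddSubgroup.val_finsetSum]
    ext a c
    have hs : S.1 c a = S.1 a c := congrFun (congrFun S.2 a) c
    simp [offd, Matrix.sum_apply, Matrix.single_apply, ite_and, Finset.sum_add_distrib, hs]
    field_simp
    ring
  rw [hS]
  exact Finset.sum_induction _ (fun T => φ T = φ' T)
    (fun a b ha hb => by rw [AddChar.map_add_eq_mul, AddChar.map_add_eq_mul, ha, hb])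
    (by rw [AddChar.map_zero_eq_one, AddChar.map_zero_eq_one])
    fun k _ => Finset.sum_induction _ (fun T => φ T = φ' T)
      (fun a b ha hb => by rw [AddChar.map_add_eq_mul, AddChar.map_add_eq_mul, ha, hb])
      (by rw [AddChar.map_zero_eq_one, AddChar.map_zero_eq_one]) fun l _ => h k l _

/-- Few dimensions leave no weight of rank two. -/
theorem small_of_finrank [FiniteDimensional ℂ U] (hψ : ψ.IsPrimitive) (h2 : (2 : F) ≠ 0) (hn : 2 ≤ n)
    (hk : 2 * (Fintype.card F + 1) * finrank ℂ U <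
      (Fintype.card F ^ n - 1) * (Fintype.card F ^ n - Fintype.card F)) : Small ρ ψ := by
  classical
  intro φ hφ1 ⟨v, hv0, hv⟩
  obtain ⟨B, hB, hBs, hBφ⟩ := Weil.exists_form h2 hφ1 hψ
  have hpol : ∀ x y, B (x + y) (x + y) = B x x + 2 * B x y + B y y := fun x y => by
    simp only [map_add, LinearMap.add_apply, hBs y x]; ring
  obtain ⟨u, hu⟩ : ∃ u, B u u ≠ 0 := by
    by_contra h
    push Not at h
    refine hB (LinearMap.ext₂ fun x y => ?_)
    have := hpol x y
    rw [h, h, h, zero_add, add_zero] at this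
    simpa [h2] using this.symm
  by_cases hcase : ∃ h, B u h = 0 ∧ B h h ≠ 0
  · exfalso
    obtain ⟨h, huh, hh⟩ := hcase
    have hA : ∀ f : formOrbit B, ∃ φ' : AddChar (SymMat F n) ℂ, (∃ w, w ≠ 0 ∧ w ∈ Wt ρ φ') ∧
        ∀ k l t, φ' (offd k l t) = ψ (f.1 (Pi.single k 1) (Pi.single l 1) * t) := by
      rintro ⟨_, A, rfl⟩
      let MA : GL (Fin n) F :=
        Matrix.GeneralLinearGroup.toLin.symm (LinearMap.GeneralLinearGroup.ofLinearEquiv A)
      have hMA : ∀ x, MA.1 *ᵥ x = A x := fun x => by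
        have h1 : Matrix.GeneralLinearGroup.toLin MA = LinearMap.GeneralLinearGroup.ofLinearEquiv A :=
          Matrix.GeneralLinearGroup.toLin.apply_symm_apply _
        exact LinearMap.congr_fun (congrArg Units.val h1) x
      let M : GL (Fin n) F := ⟨MA.1ᵀ, (↑MA⁻¹ : Matrix (Fin n) (Fin n) F)ᵀ,
        by rw [← transpose_mul, Units.inv_mul, transpose_one],
        by rw [← transpose_mul, Units.mul_inv, transpose_one]⟩
      let φ' : AddChar (SymMat F n) ℂ :=
        { toFun := fun S => φ (cS M.1 S)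
          map_zero_eq_one' := by
            rw [show cS M.1 (0 : SymMat F n) = 0 from Subtype.ext (by simp [cS]), AddChar.map_zero_eq_one]
          map_add_eq_mul' := fun S T => by
            rw [show cS M.1 (S + T) = cS M.1 S + cS M.1 T from
              Subtype.ext (by simp [cS, Matrix.mul_add, Matrix.add_mul]), AddChar.map_add_eq_mul] }
      refine ⟨φ', ⟨ρ (lv M) v, fun e => hv0 (rho_inj (ρ := ρ) (g := lv M) (e.trans (map_zero _).symm)),
        fun S => ?_⟩, fun k l t => ?_⟩
      · rw [← rho_mul, rd_lv, rho_mul, mem_Wt.1 hv, map_smul]; rfl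
      · show φ (cS M.1 (offd k l t)) = _
        rw [← symElt_single, cS_symElt, hBφ, show M.1ᵀ = MA.1 from transpose_transpose _, hMA, hMA]
    choose Φ hw hΦ using hA
    choose w hw0 hwmem using hw
    have hinj : Function.Injective Φ := by
      intro f g e
      have hval : ∀ k l, f.1 (Pi.single k 1) (Pi.single l 1) = g.1 (Pi.single k 1) (Pi.single l 1) := fun k l =>
        mulShift_inj hψ fun t => by rw [← hΦ, ← hΦ, e]
      obtain ⟨_, A, rfl⟩ := f
      obtain ⟨_, A', rfl⟩ := g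
      have : B.compl₁₂ A.toLinearMap A.toLinearMap = B.compl₁₂ A'.toLinearMap A'.toLinearMap :=
        LinearMap.ext_basis (Pi.basisFun F (Fin n)) (Pi.basisFun F (Fin n)) fun k l => by
          simpa using hval k l
      exact Subtype.ext (funext fun x => funext fun y => LinearMap.congr_fun₂ this x y)
    let : Fintype (formOrbit B) := Fintype.ofFinite _
    have hind : LinearIndependent ℂ w := by
      rw [Fintype.linearIndependent_iff]
      intro a ha f
      have h' := congrArg (P ρ (Φ f)) ha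
      rw [map_sum, Finset.sum_eq_single f (fun g _ hg => by
        rw [map_smul, P_ne (hwmem g) fun e => hg (hinj e).symm, smul_zero]) (by simp), map_zero, map_smul,
        P_self (hwmem f)] at h'
      exact (smul_eq_zero.1 h').resolve_right (hw0 f)
    have hcard := hind.fintype_card_le_finrank
    have horb := card_formOrbit_two hn h2 hBs hu huh hh
    rw [Nat.card_eq_fintype_card] at horb
    exact absurd (horb.trans (Nat.mul_le_mul_left _ hcard)) (not_le.2 hk)
  · push Not at hcase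
    have hH : ∀ x y, B u x = 0 → B u y = 0 → B x y = 0 := fun x y hx hy => by
      have := hpol x y
      rw [hcase x hx, hcase y hy, hcase (x + y) (by rw [map_add, hx, hy, add_zero]), zero_add,
        add_zero] at this
      simpa [h2] using this.symm
    refine ⟨(2 * B u u)⁻¹, fun k => B u (Pi.single k 1), offd_ext h2 fun k l t => ?_⟩
    rw [← symElt_single, hBφ, symElt_single, chi_offd]
    congr 1
    have := hH (Pi.single k 1 - ((B u u)⁻¹ * B u (Pi.single k 1)) • u)
      (Pi.single l 1 - ((B u u)⁻¹ * B u (Pi.single l 1)) • u)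
      (by rw [map_sub, map_smul, smul_eq_mul]; field_simp; ring)
      (by rw [map_sub, map_smul, smul_eq_mul]; field_simp; ring)
    simp only [map_sub, map_smul, LinearMap.sub_apply, LinearMap.smul_apply, smul_eq_mul,
      hBs (Pi.single k 1) u] at this
    field_simp at this ⊢
    linear_combination t * this

/-- A weight of the radical outside the trivial one. -/
theorem exists_weight (h2 : (2 : F) ≠ 0) (hn : 2 ≤ n) (hρ : ρ.IsIrreducible) [FiniteDimensional ℂ U]
    (hU : 2 ≤ finrank ℂ U) : ∃ φ : AddChar (SymMat F n) ℂ, φ ≠ 1 ∧ ∃ v : U, v ≠ 0 ∧ v ∈ Wt ρ φ := by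
  classical
  by_contra hno
  push Not at hno
  have htriv : ∀ S, ρ (rd S) = 1 := fun S => LinearMap.ext fun v => by
    refine rd_fix S fun φ hφ => ?_
    by_contra h1
    exact hφ (by
      by_contra h0
      exact hno φ (fun e => h1 (by rw [e, AddChar.one_apply])) _ h0 (P_mem _ _))
  have hq3 : 3 ≤ Fintype.card F := by
    by_contra hlt
    have h1 := Fintype.one_lt_card (α := F)
    have hc : Fintype.card F = 2 := by omega
    have := FiniteField.cast_card_eq_zero F
    rw [hc] at this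
    exact h2 (by exact_mod_cast this)
  rcases ClassicalSimple.symplectic_normal_eq_top_or_le_center (m := n) (F := F)
    (if h3 : 3 ≤ n then Or.inl h3 else Or.inr (Or.inl ⟨by omega, hq3⟩)) ρ.ker with hK | hK
  · have hall : ∀ g, ρ g = 1 := fun g => MonoidHom.mem_ker.1 (by rw [hK]; trivial)
    haveI : Nontrivial U := Module.nontrivial_of_finrank_pos (R := ℂ) (by omega)
    obtain ⟨v, hv⟩ := exists_ne (0 : U)
    let W : Subrepresentation ρ := ⟨ℂ ∙ v, fun g w hw => by rw [hall]; exact hw⟩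
    have := hρ
    rcases IsSimpleOrder.eq_bot_or_eq_top W with h | h
    · exact hv (Submodule.span_singleton_eq_bot.1 (congrArg Subrepresentation.toSubmodule h))
    · have e : (ℂ ∙ v) = ⊤ := congrArg Subrepresentation.toSubmodule h
      have hf := finrank_span_singleton (K := ℂ) hv
      rw [e, finrank_top] at hf
      omega
  · have h := hK (MonoidHom.mem_ker.2 (htriv (dia ⟨0, by omega⟩ 1)))
    have := congrArg (fun S : SymMat F n => S.1 ⟨0, by omega⟩ ⟨0, by omega⟩) (Weil.rad_mem_center h)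
    simp [dia] at this

variable (ρ ψ) in
/-- `u` is a standard weight vector of class `c` and sign `ε`. -/
def Marked (i : Fin n) (c : F) (ε : ℂ) (u : U) : Prop :=
  u ≠ 0 ∧ u ∈ Wt ρ (chiI ψ c i) ∧ ρ (lv (dgM (Pi.mulSingle i (-1)))) u = ε • u

theorem exists_marked [FiniteDimensional ℂ U] (hψ : ψ.IsPrimitive) (h2 : (2 : F) ≠ 0) (hn : 2 ≤ n)
    (hρ : ρ.IsIrreducible) (hU : 2 ≤ finrank ℂ U) (hs : Small ρ ψ) {ν : F} (hν : ¬ IsSquare ν) (i : Fin n) :
    ∃ c ε u, (c = 1 ∨ c = ν) ∧ (ε = 1 ∨ ε = -1) ∧ Marked ρ ψ i c ε u := by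
  classical
  obtain ⟨φ, hφ, v, hv0, hv⟩ := exists_weight h2 hn hρ hU
  obtain ⟨c, y, rfl⟩ := hs φ hφ ⟨v, hv0, hv⟩
  have hc : c ≠ 0 := fun e => hφ (by rw [e, ← chi_zero (ψ := ψ) (n := n) 0]; exact chi_congr fun _ _ => by simp)
  have hy : y ≠ 0 := fun e => hφ (by rw [e, chi_zero])
  have hν0 : ν ≠ 0 := fun e => hν (by rw [e]; exact IsSquare.zero)
  obtain ⟨c₀, r, hc₀, hcr⟩ : ∃ c₀ r : F, (c₀ = 1 ∨ c₀ = ν) ∧ c = c₀ * (r * r) := by
    by_cases hsq : IsSquare c
    · obtain ⟨r, hr⟩ := hsq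
      exact ⟨1, r, Or.inl rfl, by rw [one_mul, hr]⟩
    · have hF : ringChar F ≠ 2 := fun h => h2 (by
        have := ringChar.Nat.cast_ringChar (R := F)
        rw [h] at this
        exact_mod_cast this)
      obtain ⟨r, hr⟩ : IsSquare (c * ν) := by
        rw [← quadraticChar_one_iff_isSquare (mul_ne_zero hc hν0), map_mul,
          quadraticChar_neg_one_iff_not_isSquare.2 hsq, quadraticChar_neg_one_iff_not_isSquare.2 hν]
        rfl
      exact ⟨ν, r / ν, Or.inr rfl, by field_simp; linear_combination hr⟩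
  have hr0 : r ≠ 0 := fun e => hc (by rw [hcr, e, mul_zero, mul_zero])
  have hv' : v ∈ Wt ρ (chi ψ c₀ (r • y)) := by
    rwa [show chi ψ c₀ (r • y) = chi ψ c y from chi_congr fun k l => by
      rw [hcr, Pi.smul_apply, Pi.smul_apply, smul_eq_mul, smul_eq_mul]; ring]
  obtain ⟨A, hA⟩ := exists_equiv_of_ne (x := Pi.single i (1 : F)) (u := r • y)
    (fun h => one_ne_zero (α := F) (by simpa using congrFun h i)) (smul_ne_zero hr0 hy)
  let M : GL (Fin n) F := Matrix.GeneralLinearGroup.toLin.symm (LinearMap.GeneralLinearGroup.ofLinearEquiv A)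
  have hM : M.1 *ᵥ (r • y) = Pi.single i 1 := by
    have h1 : Matrix.GeneralLinearGroup.toLin M = LinearMap.GeneralLinearGroup.ofLinearEquiv A :=
      Matrix.GeneralLinearGroup.toLin.apply_symm_apply _
    exact (LinearMap.congr_fun (congrArg Units.val h1) _).trans hA
  set w := ρ (lv M) v with hw
  have hwm : w ∈ Wt ρ (chiI ψ c₀ i) := by
    have := lv_mem_chi M hv'
    rwa [hM] at this
  have hw0 : w ≠ 0 := fun e => hv0 (rho_inj (ρ := ρ) (g := lv M) (e.trans (map_zero _).symm))
  set D := lv (dgM (Pi.mulSingle i (-1 : Fˣ))) with hD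
  have hDw : ρ D w ∈ Wt ρ (chiI ψ c₀ i) := by
    have := lv_mem_chi (dgM (Pi.mulSingle i (-1 : Fˣ))) hwm
    rwa [show (dgM (Pi.mulSingle i (-1 : Fˣ))).1 *ᵥ (Pi.single i (1 : F)) = -Pi.single i 1 from funext fun l => by
      rw [Pi.neg_apply, dgM_mulVec]; rcases eq_or_ne l i with rfl | hl <;> simp [*], chi_neg] at this
  have hDD : ρ D (ρ D w) = w := by
    rw [← rho_mul, hD, ← map_mul, dgM_mul, show dgM (Pi.mulSingle i (-1 : Fˣ) * Pi.mulSingle i (-1)) =
      (1 : GL (Fin n) F) from Units.ext (by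
        ext a b
        rcases eq_or_ne a b with rfl | hab
        · rcases eq_or_ne a i with rfl | ha <;> simp [dgM, *]
        · simp [dgM, hab]), map_one, map_one, Module.End.one_apply]
  by_cases h0 : w + ρ D w = 0
  · exact ⟨c₀, -1, w, hc₀, Or.inr rfl, hw0, hwm, by rw [neg_one_smul, eq_neg_iff_add_eq_zero, add_comm, h0]⟩
  · exact ⟨c₀, 1, _, hc₀, Or.inl rfl, h0, add_mem hwm hDw, by rw [map_add, hDD, one_smul, add_comm]⟩

/-- All weights of an irreducible small representation are in the class of any marked vector. -/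
theorem weight_class (hψ : ψ.IsPrimitive) (h2 : (2 : F) ≠ 0) (hs : Small ρ ψ) (hρ : ρ.IsIrreducible)
    {i j : Fin n} (hj : j ≠ i) {c : F} (hc : c ≠ 0) {ε : ℂ} {u : U} (hu : Marked ρ ψ i c ε u)
    (x : U) {φ : AddChar (SymMat F n) ℂ} (hφ : P ρ φ x ≠ 0) : φ = 1 ∨ ∃ y, φ = chi ψ c y := by
  obtain ⟨Y, huY, -, hY⟩ := closure_theorem hψ h2 hs hc hu.2.1 hj hu.2.2
  have := hρ
  rcases IsSimpleOrder.eq_bot_or_eq_top Y with h | h
  · exact absurd ((Submodule.mem_bot ℂ).1 (show u ∈ (⊥ : Subrepresentation ρ).toSubmodule from h ▸ huY)) hu.1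
  · exact hY x (by rw [h]; trivial) φ hφ

/-- Two small representations with the same marking are equivalent. -/
theorem equiv_of_marked {W : Type*} [AddCommGroup W] [Module ℂ W]
    {σ : Representation ℂ (Matrix.symplecticGroup (Fin n) F) W} (hψ : ψ.IsPrimitive) (h2 : (2 : F) ≠ 0)
    (hs : Small ρ ψ) (hs' : Small σ ψ) (hρ : ρ.IsIrreducible) (hσ : σ.IsIrreducible)
    {i j : Fin n} (hj : j ≠ i) {c : F} (hc : c ≠ 0) {ε : ℂ} {u : U} {w : W}
    (hu : Marked ρ ψ i c ε u) (hw : Marked σ ψ i c ε w) :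
    ∃ e : U ≃ₗ[ℂ] W, ∀ g x, e (ρ g x) = σ g (e x) := by
  let τ : Representation ℂ (Matrix.symplecticGroup (Fin n) F) (U × W) :=
    { toFun := fun g => (ρ g).prodMap (σ g)
      map_one' := by ext x <;> simp
      map_mul' := fun g g' => by ext x <;> simp }
  have hτ : ∀ g x, τ g x = (ρ g x.1, σ g x.2) := fun g x => rfl
  have hsτ : Small τ ψ := fun φ hφ ⟨v, hv0, hv⟩ => by
    have h1 : v.1 ∈ Wt ρ φ := fun S => congrArg Prod.fst (hv S)
    have h2 : v.2 ∈ Wt σ φ := fun S => congrArg Prod.snd (hv S)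
    by_cases e : v.1 = 0
    · exact hs' φ hφ ⟨v.2, fun e' => hv0 (Prod.ext e e'), h2⟩
    · exact hs φ hφ ⟨v.1, e, h1⟩
  have hmem : (u, w) ∈ Wt τ (chiI ψ c i) := fun S => Prod.ext (hu.2.1 S) (hw.2.1 S)
  obtain ⟨Y, huY, hY, -⟩ := closure_theorem hψ h2 hsτ hc hmem hj (e := ε) (Prod.ext hu.2.2 hw.2.2)
  have hi2 : ∀ x ∈ Y.toSubmodule, x.2 = 0 → x = 0 := by
    intro x hx hx2
    let A : Subrepresentation ρ := ⟨Y.toSubmodule.comap (LinearMap.inl ℂ U W), fun g v hv => by
      show (ρ g v, (0 : W)) ∈ Y.toSubmodule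
      have := Y.apply_mem_toSubmodule g (v := (v, (0 : W))) hv
      rwa [hτ, map_zero] at this⟩
    have := hρ
    rcases IsSimpleOrder.eq_bot_or_eq_top A with h | h
    · have h1 : x.1 ∈ A.toSubmodule := by
        show (x.1, (0 : W)) ∈ Y.toSubmodule
        rwa [← hx2]
      rw [h] at h1
      exact Prod.ext ((Submodule.mem_bot ℂ).1 h1) hx2
    · have h1 : u ∈ A.toSubmodule := by rw [h]; trivial
      obtain ⟨a, ha⟩ := hY (u, 0) h1 (fun S => Prod.ext (hu.2.1 S) (by simp [hτ]))
      have e1 : a • w = 0 := (congrArg Prod.snd ha).symm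
      rcases smul_eq_zero.1 e1 with e1 | e1
      · exact absurd (by simpa [e1] using congrArg Prod.fst ha : u = 0) hu.1
      · exact absurd e1 hw.1
  have hi1 : ∀ x ∈ Y.toSubmodule, x.1 = 0 → x = 0 := by
    intro x hx hx1
    let A : Subrepresentation σ := ⟨Y.toSubmodule.comap (LinearMap.inr ℂ U W), fun g v hv => by
      show ((0 : U), σ g v) ∈ Y.toSubmodule
      have := Y.apply_mem_toSubmodule g (v := ((0 : U), v)) hv
      rwa [hτ, map_zero] at this⟩
    have := hσ
    rcases IsSimpleOrder.eq_bot_or_eq_top A with h | h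
    · have h1 : x.2 ∈ A.toSubmodule := by
        show ((0 : U), x.2) ∈ Y.toSubmodule
        rwa [← hx1]
      rw [h] at h1
      exact Prod.ext hx1 ((Submodule.mem_bot ℂ).1 h1)
    · have h1 : w ∈ A.toSubmodule := by rw [h]; trivial
      obtain ⟨a, ha⟩ := hY (0, w) h1 (fun S => Prod.ext (by simp [hτ]) (hw.2.1 S))
      have e1 : a • u = 0 := (congrArg Prod.fst ha).symm
      rcases smul_eq_zero.1 e1 with e1 | e1
      · exact absurd (by simpa [e1] using congrArg Prod.snd ha : w = 0) hw.1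
      · exact absurd e1 hu.1
  let f : Y.toSubmodule →ₗ[ℂ] U := LinearMap.fst ℂ U W ∘ₗ Y.toSubmodule.subtype
  let f' : Y.toSubmodule →ₗ[ℂ] W := LinearMap.snd ℂ U W ∘ₗ Y.toSubmodule.subtype
  have hf : Function.Bijective f := by
    refine ⟨(injective_iff_map_eq_zero f).2 fun x hx => Subtype.ext (hi1 x.1 x.2 hx), LinearMap.range_eq_top.1 ?_⟩
    let R : Subrepresentation ρ := ⟨LinearMap.range f, fun g v hv => by
      obtain ⟨x, rfl⟩ := hv
      exact ⟨⟨τ g x.1, Y.apply_mem_toSubmodule g x.2⟩, rfl⟩⟩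
    have := hρ
    rcases IsSimpleOrder.eq_bot_or_eq_top R with h | h
    · have h1 : u ∈ R.toSubmodule := ⟨⟨(u, w), huY⟩, rfl⟩
      rw [h] at h1
      exact absurd ((Submodule.mem_bot ℂ).1 h1) hu.1
    · exact congrArg Subrepresentation.toSubmodule h
  have hf' : Function.Bijective f' := by
    refine ⟨(injective_iff_map_eq_zero f').2 fun x hx => Subtype.ext (hi2 x.1 x.2 hx), LinearMap.range_eq_top.1 ?_⟩
    let R : Subrepresentation σ := ⟨LinearMap.range f', fun g v hv => by
      obtain ⟨x, rfl⟩ := hv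
      exact ⟨⟨τ g x.1, Y.apply_mem_toSubmodule g x.2⟩, rfl⟩⟩
    have := hσ
    rcases IsSimpleOrder.eq_bot_or_eq_top R with h | h
    · have h1 : w ∈ R.toSubmodule := ⟨⟨(u, w), huY⟩, rfl⟩
      rw [h] at h1
      exact absurd ((Submodule.mem_bot ℂ).1 h1) hw.1
    · exact congrArg Subrepresentation.toSubmodule h
  let e₁ := LinearEquiv.ofBijective f hf
  let e₂ := LinearEquiv.ofBijective f' hf'
  refine ⟨e₁.symm.trans e₂, fun g x => ?_⟩
  obtain ⟨y, rfl⟩ := e₁.surjective x
  have : ρ g (e₁ y) = e₁ ⟨τ g y.1, Y.apply_mem_toSubmodule g y.2⟩ := rfl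
  rw [LinearEquiv.trans_apply, this, LinearEquiv.symm_apply_apply, LinearEquiv.trans_apply,
    LinearEquiv.symm_apply_apply]
  rfl

end Cfsg.Agent.WeilUniq
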