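import Cfsg.Agent.Lib.WeilUniq.Stab

/-!
The submodule generated by one weight vector of rank one.
-/

set_option autoImplicit false

open Matrix
open Cfsg.Agent.Weil (SymMat)

namespace Cfsg.Agent.WeilUniq

variable {F : Type*} [Field F] [Fintype F] {n : ℕ} {U : Type*} [AddCommGroup U] [Module ℂ U]
  {ρ : Representation ℂ (Matrix.symplecticGroup (Fin n) F) U} {ψ : AddChar F ℂ}

variable (ρ) in
/-- The translates under the Levi factor. -/
def lvSpan (u : U) : Submodule ℂ U := Submodule.span ℂ (Set.range fun M : GL (Fin n) F => ρ (lv M) u)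

variable (ρ) in
/-- The fixed parts of the exchanged translates. -/
noncomputable def fixSpan (i : Fin n) (u : U) : Submodule ℂ U :=
  Submodule.span ℂ (Set.range fun M : GL (Fin n) F =>
    P ρ (1 : AddChar (SymMat F n) ℂ) (ρ (wE i) (ρ (lv M) u)))

theorem lv_mem_lvSpan {u x : U} (hx : x ∈ lvSpan ρ u) (N : GL (Fin n) F) : ρ (lv N) x ∈ lvSpan ρ u := by
  induction hx using Submodule.span_induction with
  | mem x h =>
    obtain ⟨M, rfl⟩ := h
    exact Submodule.subset_span ⟨N * M, by simp [map_mul]⟩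
  | zero => rw [map_zero]; exact zero_mem _
  | add a b _ _ ha hb => rw [map_add]; exact add_mem ha hb
  | smul a b _ hb => rw [map_smul]; exact Submodule.smul_mem _ a hb

theorem mulVec_ne_zero' (M : GL (Fin n) F) {y : Fin n → F} (hy : y ≠ 0) : M.1 *ᵥ y ≠ 0 := fun h => hy (by
  have := congrArg (fun z => (↑M⁻¹ : Matrix (Fin n) (Fin n) F) *ᵥ z) h
  simpa [mulVec_mulVec] using this)

variable (hψ : ψ.IsPrimitive) (h2 : (2 : F) ≠ 0) (hs : Small ρ ψ) {c : F} (hc : c ≠ 0) {i : Fin n} {u : U}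
  (hu : u ∈ Wt ρ (chiI ψ c i))

include hu in
theorem P_lvSpan {x : U} (hx : x ∈ lvSpan ρ u) (φ : AddChar (SymMat F n) ℂ) :
    P ρ φ x ∈ lvSpan ρ u := by
  classical
  induction hx using Submodule.span_induction with
  | mem x h =>
    obtain ⟨M, rfl⟩ := h
    rw [P_eq (lv_mem_chi M hu)]
    split_ifs
    · exact Submodule.subset_span ⟨M, rfl⟩
    · exact zero_mem _
  | zero => rw [map_zero]; exact zero_mem _
  | add a b _ _ ha hb => rw [map_add]; exact add_mem ha hb
  | smul a b _ hb => rw [map_smul]; exact Submodule.smul_mem _ a hb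

include hu in
theorem rd_lvSpan {x : U} (hx : x ∈ lvSpan ρ u) (S : SymMat F n) : ρ (rd S) x ∈ lvSpan ρ u := by
  induction hx using Submodule.span_induction with
  | mem x h =>
    obtain ⟨M, rfl⟩ := h
    rw [mem_Wt.1 (lv_mem_chi M hu)]
    exact Submodule.smul_mem _ _ (Submodule.subset_span ⟨M, rfl⟩)
  | zero => rw [map_zero]; exact zero_mem _
  | add a b _ _ ha hb => rw [map_add]; exact add_mem ha hb
  | smul a b _ hb => rw [map_smul]; exact Submodule.smul_mem _ a hb

include hψ h2 hs hc hu in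
theorem wE_mem_of_ne {M : GL (Fin n) F} {a k : Fin n} (hk : k ≠ a)
    (hy : (M.1 *ᵥ Pi.single i 1) k ≠ 0) : ρ (wE a) (ρ (lv M) u) ∈ lvSpan ρ u := by
  set y := M.1 *ᵥ Pi.single i (1 : F) with hydef
  set s := y a / y k
  have hg0 : ρ (sh hk.symm (-s)) (ρ (lv M) u) ∈ lvSpan ρ u :=
    lv_mem_lvSpan (Submodule.subset_span ⟨M, rfl⟩) _
  have hw := sh_mem hk.symm (lv_mem_chi M hu) (-s)
  rw [← hydef] at hw
  set y0 := y + Pi.single a (-s * y k) with hy0
  have h0a : y0 a = 0 := by
    simp only [hy0, Pi.add_apply, Pi.single_eq_same, s, neg_mul, div_mul_cancel₀ _ hy, add_neg_cancel]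
  have h0k : y0 k ≠ 0 := by
    simpa [hy0, Pi.single_eq_of_ne hk] using hy
  have hmem : ρ (wE a) (ρ (sh hk.symm (-s)) (ρ (lv M) u)) ∈ lvSpan ρ u := by
    rw [wE_formula hψ h2 hs hk.symm hc h0a h0k hw]
    exact Submodule.smul_mem _ _ (Submodule.sum_mem _ fun t _ => lv_mem_lvSpan hg0 _)
  have hexp : ρ (lv M) u = ρ (sh hk.symm s) (ρ (sh hk.symm (-s)) (ρ (lv M) u)) := by
    rw [← rho_mul (sh hk.symm s), sh_mul, add_neg_cancel, sh_zero, map_one, Module.End.one_apply]
  rw [hexp, ← rho_mul, ← rd_offd_wE, rho_mul]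
  exact rd_lvSpan hu hmem _

include hψ h2 hs hc hu in
theorem wE_sub_fixed_mem {M : GL (Fin n) F} {j : Fin n} (hj : j ≠ i) :
    ρ (wE i) (ρ (lv M) u) - P ρ (1 : AddChar (SymMat F n) ℂ) (ρ (wE i) (ρ (lv M) u)) ∈ lvSpan ρ u := by
  classical
  by_cases hk : ∃ k, k ≠ i ∧ (M.1 *ᵥ Pi.single i (1 : F)) k ≠ 0
  · obtain ⟨k, hk, hy⟩ := hk
    have h := wE_mem_of_ne hψ h2 hs hc hu hk hy
    exact sub_mem h (P_lvSpan hu h _)
  push Not at hk
  set y := M.1 *ᵥ Pi.single i (1 : F) with hydef
  have hyj : y j = 0 := hk j hj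
  have hyi : y i ≠ 0 := fun h0 =>
    mulVec_ne_zero' M (y := Pi.single i (1 : F)) (fun h => one_ne_zero (α := F) (by simpa using congrFun h i))
      (funext fun k => by
        rcases eq_or_ne k i with rfl | hki
        · exact h0
        · exact hk k hki)
  have hg := lv_mem_chi M hu
  rw [← hydef] at hg
  set z := ρ (wE i) (ρ (lv M) u) with hz
  have hzform : ∀ φ, P ρ φ z ≠ 0 → φ = 1 ∨
      ∃ c' y', φ = chi ψ c' y' ∧ c' ≠ 0 ∧ y' i ≠ 0 ∧ ∀ a, a ≠ i → y' a = 0 := by
    intro φ hφ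
    rcases coeff_of_P hψ h2 hs hg hφ with ⟨h1, -⟩ | ⟨c', y', rfl, h⟩
    · exact Or.inl h1
    by_cases h1 : chi ψ c' y' = 1
    · exact Or.inl h1
    have hc' : c' ≠ 0 := fun e => h1 (by rw [e, ← chi_zero (ψ := ψ) (n := n) 0]; exact chi_congr fun _ _ => by simp)
    have hz' : ∀ a, a ≠ i → y' a = 0 := fun a ha => by
      have := (h a a ha ha).symm
      rw [hk a ha, mul_zero, mul_assoc, mul_eq_zero, mul_self_eq_zero] at this
      exact this.resolve_left hc'
    refine Or.inr ⟨c', y', rfl, hc', fun h0 => h1 ?_, hz'⟩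
    rw [show y' = 0 from funext fun a => by
      rcases eq_or_ne a i with rfl | ha
      · exact h0
      · exact hz' a ha, chi_zero]
  -- comparison with the second exchanging element
  set κ := (gauss ψ c (y i))⁻¹
  have hdiff : ρ (wE j) z - κ • z ∈ lvSpan ρ u := by
    rw [hz, ← rho_mul, wE_comm hj, rho_mul, wE_formula hψ h2 hs hj hc hyj hyi hg, map_smul, map_sum,
      ← Finset.sum_erase_add _ _ (Finset.mem_univ (0 : F)), sh_zero, map_one, Module.End.one_apply, smul_add,
      add_sub_cancel_right]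
    refine Submodule.smul_mem _ _ (Submodule.sum_mem _ fun s hs0 => ?_)
    rw [← rho_mul (sh hj s), sh, ← map_mul lv]
    refine wE_mem_of_ne hψ h2 hs hc hu hj ?_
    rw [Units.val_mul, ← mulVec_mulVec, ← hydef, shM_mulVec]
    simp [hyj, hyi, Finset.ne_of_mem_erase hs0]
  rw [show z - P ρ (1 : AddChar (SymMat F n) ℂ) z =
      ∑ φ ∈ (Finset.univ.erase (1 : AddChar (SymMat F n) ℂ)), P ρ φ z from
    sub_eq_iff_eq_add.2 (((Finset.sum_erase_add _ _ (Finset.mem_univ _)).trans (sum_P z)).symm)]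
  refine Submodule.sum_mem _ fun φ hφ => ?_
  by_cases hne : P ρ φ z = 0
  · rw [hne]; exact zero_mem _
  obtain ⟨c', y', rfl, hc', hy'i, hy'⟩ := (hzform φ hne).resolve_left (Finset.ne_of_mem_erase hφ)
  set ξ := chi ψ c' (y' + Pi.single j (1 * y' i)) with hξ
  have hξz : P ρ ξ z = 0 := by
    by_contra hne'
    rcases hzform ξ hne' with h | ⟨c'', y'', h, -, -, h''⟩
    · have := one_coeff hψ h2 h j j
      simp [hy' j hj, hc', hy'i] at this
    · have := chi_coeff hψ h2 h j j
      simp [hy' j hj, h'' j hj, hc', hy'i] at this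
  have h1 : P ρ ξ (ρ (wE j) z) ∈ lvSpan ρ u := by
    have := P_lvSpan hu hdiff ξ
    rwa [map_sub, map_smul, hξz, smul_zero, sub_zero] at this
  have hterm : ∀ φ', P ρ φ' z ≠ 0 → φ' ≠ chi ψ c' y' → P ρ ξ (ρ (wE j) (P ρ φ' z)) = 0 := by
    intro φ' hφ' hne'
    by_contra hcon
    rcases hzform φ' hφ' with rfl | ⟨c'', y'', rfl, hc'', hy''i, hy''⟩
    · have hm : P ρ (1 : AddChar (SymMat F n) ℂ) z ∈ Wt ρ (chi ψ c 0) := by rw [chi_zero]; exact P_mem _ _
      rcases coeff_of_P hψ h2 hs hm hcon with ⟨h, -⟩ | ⟨c₁, y₁, h, h'⟩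
      · have := one_coeff hψ h2 h i i
        simp [Pi.single_eq_of_ne hj.symm, hc', hy'i] at this
      · have e := chi_coeff hψ h2 h i i
        have e' := h' i i hj.symm hj.symm
        rw [← e'] at e
        simp [Pi.single_eq_of_ne hj.symm, hc', hy'i] at e
    · rw [wE_formula hψ h2 hs hj hc'' (hy'' j hj) hy''i (P_mem _ _), map_smul, map_sum] at hcon
      obtain ⟨s, -, hs0⟩ := Finset.exists_ne_zero_of_sum_ne_zero (right_ne_zero_of_smul hcon)
      refine hs0 (P_ne (sh_mem hj (P_mem _ _) s) fun e => hne' (chi_congr fun a b => ?_))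
      rcases eq_or_ne a i with rfl | ha
      · rcases eq_or_ne b a with rfl | hb
        · have := chi_coeff hψ h2 e b b
          simp [Pi.single_eq_of_ne hj.symm] at this
          exact this.symm
        · simp [hy' b hb, hy'' b hb]
      · simp [hy' a ha, hy'' a ha]
  have h2' : P ρ ξ (ρ (wE j) z) =
      (gauss ψ c' (y' i))⁻¹ • ρ (sh hj 1) (P ρ (chi ψ c' y') z) := by
    conv_lhs => rw [← sum_P (ρ := ρ) z]
    rw [map_sum, map_sum, Finset.sum_eq_single (chi ψ c' y') (fun φ' _ hne' => ?_) (by simp)]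
    · rw [wE_formula hψ h2 hs hj hc' (hy' j hj) hy'i (P_mem _ _), map_smul, map_sum]
      congr 1
      rw [Finset.sum_eq_single (1 : F) (fun s _ hs1 => ?_) (by simp)]
      · exact P_self (sh_mem hj (P_mem _ _) 1)
      · refine P_ne (sh_mem hj (P_mem _ _) s) fun e => hs1 ?_
        have := single_chi_inj hψ h2 hj hc' hy'i e
        exact (mul_right_cancel₀ hy'i this).symm
    · by_cases h0 : P ρ φ' z = 0
      · rw [h0, map_zero, map_zero]
      · exact hterm φ' h0 hne'
  rw [h2'] at h1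
  have hG : gauss ψ c' (y' i) ≠ 0 := fun h0 => hne (rho_inj (ρ := ρ) (g := wE j) (by
    rw [wE_formula hψ h2 hs hj hc' (hy' j hj) hy'i (P_mem _ _), h0, _root_.inv_zero, zero_smul, map_zero]))
  have h3 := lv_mem_lvSpan (Submodule.smul_mem _ (gauss ψ c' (y' i)) h1) (shM hj (-1))
  rw [smul_smul, mul_inv_cancel₀ hG, one_smul] at h3
  change ρ (sh hj (-1)) (ρ (sh hj 1) _) ∈ _ at h3
  rwa [← rho_mul, sh_mul, neg_add_cancel, sh_zero, map_one, Module.End.one_apply] at h3

theorem lv_mem_fixSpan_diag (d : Fin n → Fˣ) {x : U} (hx : x ∈ fixSpan ρ i u) :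
    ρ (lv (dgM d)) x ∈ fixSpan ρ i u := by
  induction hx using Submodule.span_induction with
  | mem x h =>
    obtain ⟨M, rfl⟩ := h
    refine Submodule.subset_span ⟨dgM (Function.update d i (d i)⁻¹) * M, ?_⟩
    show P ρ 1 (ρ (wE i) (ρ (lv (dgM (Function.update d i (d i)⁻¹) * M)) u)) =
      ρ (lv (dgM d)) (P ρ 1 (ρ (wE i) (ρ (lv M) u)))
    rw [← P_lv_one]
    congr 1
    simp only [← rho_mul]
    rw [map_mul lv, ← mul_assoc, wE_lv_dgM]
    simp [mul_assoc]
  | zero => rw [map_zero]; exact zero_mem _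
  | add a b _ _ ha hb => rw [map_add]; exact add_mem ha hb
  | smul a b _ hb => rw [map_smul]; exact Submodule.smul_mem _ a hb

theorem fixSpan_fixed {x : U} (hx : x ∈ fixSpan ρ i u) : x ∈ Wt ρ (1 : AddChar (SymMat F n) ℂ) :=
  (Submodule.span_le (p := Wt ρ (1 : AddChar (SymMat F n) ℂ))).2
    (by rintro _ ⟨M, rfl⟩; exact P_mem _ _) hx

include hψ h2 hs in
theorem lv_mem_fixSpan (N : GL (Fin n) F) {x : U} (hx : x ∈ fixSpan ρ i u) :
    ρ (lv N) x ∈ fixSpan ρ i u := by
  classical
  have hlist : ∀ L : List (TransvectionStruct (Fin n) F), ∀ x ∈ fixSpan ρ i u, ∀ M : GL (Fin n) F,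
      M.1 = (L.map TransvectionStruct.toMatrix).prod → ρ (lv M) x = x := by
    intro L
    induction L with
    | nil =>
      intro x _ M hM
      rw [show M = 1 from Units.ext hM, map_one, map_one, Module.End.one_apply]
    | cons t L ih =>
      intro x hx M hM
      rw [List.map_cons, List.prod_cons] at hM
      have hM' : M = shM t.hij t.c * ((shM t.hij t.c)⁻¹ * M) := (mul_inv_cancel_left _ _).symm
      rw [hM', map_mul, rho_mul, ih x hx _ (by
        rw [Units.val_mul, hM, ← Matrix.mul_assoc, show (t.toMatrix : Matrix (Fin n) (Fin n) F) = (shM t.hij t.c).1 from rfl,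
          Units.inv_mul, Matrix.one_mul])]
      have hx' : x ∈ Wt ρ (chi ψ (1 : F) 0) := by rw [chi_zero]; exact fixSpan_fixed hx
      exact sh_fix hψ h2 hs hx' t.hij rfl t.c
  obtain ⟨L, L', D, hLD⟩ := Pivot.exists_list_transvec_mul_diagonal_mul_list_transvec N.1
  have hdet : N.1.det ≠ 0 := ((Matrix.isUnit_iff_isUnit_det _).1 N.isUnit).ne_zero
  rw [hLD, det_mul, det_mul, det_diagonal] at hdet
  have hD : ∀ a, D a ≠ 0 := fun a h0 => right_ne_zero_of_mul (left_ne_zero_of_mul hdet)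
    (Finset.prod_eq_zero (Finset.mem_univ a) h0)
  have hu1 : IsUnit (L.map TransvectionStruct.toMatrix).prod := by
    rw [Matrix.isUnit_iff_isUnit_det, isUnit_iff_ne_zero]
    exact left_ne_zero_of_mul (left_ne_zero_of_mul hdet)
  have hu2 : IsUnit (L'.map TransvectionStruct.toMatrix).prod := by
    rw [Matrix.isUnit_iff_isUnit_det, isUnit_iff_ne_zero]
    exact right_ne_zero_of_mul hdet
  have hN : N = hu1.unit * dgM (fun a => Units.mk0 (D a) (hD a)) * hu2.unit := Units.ext hLD
  rw [hN, map_mul lv, map_mul lv, rho_mul, rho_mul, hlist L' x hx _ rfl, hlist L _ (lv_mem_fixSpan_diag _ hx) _ rfl]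
  exact lv_mem_fixSpan_diag _ hx

include hψ h2 hs hc hu in
/-- The submodule generated by `u` has `u` as its only weight vector of the standard weight. -/
theorem closure_theorem {j : Fin n} (hj : j ≠ i) {e : ℂ}
    (he : ρ (lv (dgM (Pi.mulSingle i (-1)))) u = e • u) :
    ∃ Y : Subrepresentation ρ, u ∈ Y.toSubmodule ∧
      (∀ x ∈ Y.toSubmodule, x ∈ Wt ρ (chiI ψ c i) → ∃ a : ℂ, x = a • u) ∧
      (∀ x ∈ Y.toSubmodule, ∀ φ, P ρ φ x ≠ 0 → φ = 1 ∨ ∃ y, φ = chi ψ c y) := by
  classical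
  set Y := lvSpan ρ u ⊔ fixSpan ρ i u with hY
  have hW : ∀ x ∈ lvSpan ρ u, ρ (wE i) x ∈ Y := by
    intro x hx
    induction hx using Submodule.span_induction with
    | mem x h =>
      obtain ⟨M, rfl⟩ := h
      rw [← sub_add_cancel (ρ (wE i) _) (P ρ (1 : AddChar (SymMat F n) ℂ) (ρ (wE i) (ρ (lv M) u)))]
      exact add_mem (le_sup_left (α := Submodule ℂ U) (wE_sub_fixed_mem hψ h2 hs hc hu hj))
        (le_sup_right (α := Submodule ℂ U) (Submodule.subset_span ⟨M, rfl⟩))
    | zero => rw [map_zero]; exact zero_mem _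
    | add a b _ _ ha hb => rw [map_add]; exact add_mem ha hb
    | smul a b _ hb => rw [map_smul]; exact Submodule.smul_mem _ a hb
  have hZ : ∀ x ∈ fixSpan ρ i u, ρ (wE i) x ∈ Y := by
    intro x hx
    induction hx using Submodule.span_induction with
    | mem x h =>
      obtain ⟨M, rfl⟩ := h
      show ρ (wE i) (P ρ 1 (ρ (wE i) (ρ (lv M) u))) ∈ Y
      set z := ρ (wE i) (ρ (lv M) u) with hz
      rw [show P ρ (1 : AddChar (SymMat F n) ℂ) z = z - (z - P ρ (1 : AddChar (SymMat F n) ℂ) z) by abel, map_sub]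
      refine sub_mem ?_ (hW _ (wE_sub_fixed_mem hψ h2 hs hc hu hj))
      rw [hz, ← rho_mul (wE i) (wE i), wE_mul_self, ← rho_mul, ← map_mul]
      exact le_sup_left (α := Submodule ℂ U) (Submodule.subset_span ⟨_, rfl⟩)
    | zero => rw [map_zero]; exact zero_mem _
    | add a b _ _ ha hb => rw [map_add]; exact add_mem ha hb
    | smul a b _ hb => rw [map_smul]; exact Submodule.smul_mem _ a hb
  let H : Subgroup (Matrix.symplecticGroup (Fin n) F) :=
    { carrier := {g | ∀ x ∈ Y, ρ g x ∈ Y}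
      one_mem' := fun x hx => by rwa [map_one, Module.End.one_apply]
      mul_mem' := fun {a b} ha hb x hx => by rw [rho_mul]; exact ha _ (hb x hx)
      inv_mem' := fun {g} hg x hx => by
        have hp : ∀ m : ℕ, ρ (g ^ m) x ∈ Y := fun m => by
          induction m with
          | zero => rwa [pow_zero, map_one, Module.End.one_apply]
          | succ m ih => rw [pow_succ', rho_mul]; exact hg _ ih
        have h := hp (orderOf g - 1)
        rwa [show g ^ (orderOf g - 1) = g⁻¹ from eq_inv_of_mul_eq_one_left (by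
          rw [← pow_succ, Nat.sub_add_cancel (orderOf_pos g), pow_orderOf_eq_one])] at h }
  have hH : ∀ g, g ∈ H := by
    refine mem_of_generators i H (fun S x hx => ?_) (fun N x hx => ?_) (fun x hx => ?_) <;>
      obtain ⟨a, ha, b, hb, rfl⟩ := Submodule.mem_sup.1 hx <;> rw [map_add]
    · refine add_mem (le_sup_left (α := Submodule ℂ U) (rd_lvSpan hu ha S)) ?_
      rw [mem_Wt.1 (fixSpan_fixed hb) S, AddChar.one_apply, one_smul]
      exact le_sup_right (α := Submodule ℂ U) hb
    · exact add_mem (le_sup_left (α := Submodule ℂ U) (lv_mem_lvSpan ha N))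
        (le_sup_right (α := Submodule ℂ U) (lv_mem_fixSpan hψ h2 hs N hb))
    · exact add_mem (hW a ha) (hZ b hb)
  refine ⟨⟨Y, fun g x hx => hH g x hx⟩, ?_, ?_, ?_⟩
  · exact le_sup_left (α := Submodule ℂ U) (Submodule.subset_span ⟨1, by simp⟩)
  · intro x hx hxw
    obtain ⟨a, ha, b, hb, rfl⟩ := Submodule.mem_sup.1 hx
    have hne1 : chiI ψ c i ≠ 1 := fun h => by
      have := one_coeff hψ h2 h i i
      simp [hc] at this
    have hPa : a + b = P ρ (chiI ψ c i) a := by
      rw [← P_self hxw, map_add, P_ne (fixSpan_fixed hb) hne1, add_zero]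
    rw [hPa]
    clear hPa hxw hx hb
    induction ha using Submodule.span_induction with
    | mem x h =>
      obtain ⟨M, rfl⟩ := h
      by_cases he' : chiI ψ c i = chi ψ c (M.1 *ᵥ Pi.single i 1)
      · rw [P_eq (lv_mem_chi M hu), if_pos he']
        rcases chi_inj hψ h2 hc he' with e' | e'
        · obtain ⟨f, hf⟩ := stab_scalar hψ h2 hs hc i (M := M) e'.symm
          exact ⟨f, hf u hu⟩
        · set D : GL (Fin n) F := dgM (Pi.mulSingle i (-1))
          have hDM : (D * M).1 *ᵥ (Pi.single i (1 : F)) = Pi.single i 1 := by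
            rw [Units.val_mul, ← mulVec_mulVec, show M.1 *ᵥ Pi.single i (1 : F) = -Pi.single i 1 by
              conv_rhs => rw [e', neg_neg], mulVec_neg]
            funext l
            rw [Pi.neg_apply, dgM_mulVec]
            rcases eq_or_ne l i with rfl | hl <;> simp [*]
          have hDD : D * D = 1 := Units.ext (by
            rw [dgM_mul]
            ext a b
            rcases eq_or_ne a b with rfl | hab
            · rcases eq_or_ne a i with rfl | ha <;> simp [dgM, *]
            · simp [dgM, hab])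
          obtain ⟨f, hf⟩ := stab_scalar hψ h2 hs hc i (M := D * M) hDM
          refine ⟨f * e, ?_⟩
          have hM : M = D * (D * M) := by rw [← mul_assoc, hDD, one_mul]
          rw [hM, map_mul, rho_mul, hf u hu, map_smul, he, smul_smul]
      · rw [P_eq (lv_mem_chi M hu), if_neg he']
        exact ⟨0, by rw [zero_smul]⟩
    | zero => exact ⟨0, by rw [map_zero, zero_smul]⟩
    | add a b _ _ ha hb =>
      obtain ⟨f, hf⟩ := ha
      obtain ⟨f', hf'⟩ := hb
      exact ⟨f + f', by rw [map_add, hf, hf', add_smul]⟩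
    | smul a b _ hb =>
      obtain ⟨f, hf⟩ := hb
      exact ⟨a * f, by rw [map_smul, hf, smul_smul]⟩
  · intro x hx φ hφ
    by_contra hcon
    push Not at hcon
    obtain ⟨a, ha, b, hb, rfl⟩ := Submodule.mem_sup.1 hx
    refine hφ ?_
    rw [map_add, P_ne (fixSpan_fixed hb) hcon.1, add_zero]
    clear hφ hx hb
    induction ha using Submodule.span_induction with
    | mem x h =>
      obtain ⟨M, rfl⟩ := h
      exact P_ne (lv_mem_chi M hu) (hcon.2 _)
    | zero => rw [map_zero]
    | add a b _ _ ha hb => rw [map_add, ha, hb, add_zero]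
    | smul a b _ hb => rw [map_smul, hb, smul_zero]

end Cfsg.Agent.WeilUniq
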