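import Cfsg.Agent.Lib.Weil.LowerBound
import Mathlib.LinearAlgebra.Matrix.Transvection

/-!
Special elements of the symplectic group in the coordinates of the Siegel parabolic and their relations.
-/

set_option autoImplicit false

open Matrix
open Cfsg.Agent.Weil (rad SymMat)

namespace Cfsg.Agent.WeilUniq

variable {F : Type*} [Field F] {n : ℕ}

/-- The element of the radical belonging to a symmetric matrix. -/
def rd (S : SymMat F n) : Matrix.symplecticGroup (Fin n) F := rad (Multiplicative.ofAdd S)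

theorem rd_coe (S : SymMat F n) : (rd S).1 = fromBlocks 1 S.1 0 1 := rfl

theorem rd_zero : rd (0 : SymMat F n) = 1 := Subtype.ext (by simp [rd_coe, fromBlocks_one])

theorem rd_add (S T : SymMat F n) : rd (S + T) = rd S * rd T :=
  Subtype.ext (by simp [rd_coe, fromBlocks_multiply, add_comm])

/-- The congruent symmetric matrix `Mᵀ S M`. -/
def cS (M : Matrix (Fin n) (Fin n) F) (S : SymMat F n) : SymMat F n :=
  ⟨Mᵀ * S.1 * M, by
    show (Mᵀ * S.1 * M)ᵀ = _
    rw [transpose_mul, transpose_mul, transpose_transpose, show S.1ᵀ = S.1 from S.2, Matrix.mul_assoc]⟩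

/-- The element of the Levi factor acting by `M` on the second block of coordinates. -/
noncomputable def lv : GL (Fin n) F →* Matrix.symplecticGroup (Fin n) F where
  toFun M := ⟨fromBlocks (↑M⁻¹ : Matrix (Fin n) (Fin n) F)ᵀ 0 0 M.1, by
    rw [SymplecticGroup.mem_iff, Matrix.J, fromBlocks_transpose, fromBlocks_multiply, fromBlocks_multiply]
    simp [← transpose_mul]⟩
  map_one' := Subtype.ext (by simp [fromBlocks_one])
  map_mul' A B := Subtype.ext (by simp [fromBlocks_multiply, transpose_mul])

theorem lv_coe (M : GL (Fin n) F) :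
    (lv M).1 = fromBlocks (↑M⁻¹ : Matrix (Fin n) (Fin n) F)ᵀ 0 0 M.1 := rfl

theorem rd_lv (M : GL (Fin n) F) (S : SymMat F n) : rd S * lv M = lv M * rd (cS M.1 S) := by
  refine Subtype.ext ?_
  simp [rd_coe, lv_coe, fromBlocks_multiply, cS, ← Matrix.mul_assoc, ← transpose_mul]

/-- `b • (single k l 1 + single l k 1)`. -/
def offd (k l : Fin n) (b : F) : SymMat F n :=
  ⟨single k l b + single l k b, by
    show (single k l b + single l k b)ᵀ = _
    simp [add_comm]⟩

/-- `b • single i i 1`. -/
def dia (i : Fin n) (b : F) : SymMat F n :=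
  ⟨single i i b, by show (single i i b)ᵀ = _; simp⟩

theorem dia_neg (i : Fin n) (b : F) : dia i (-b) = -dia i b :=
  Subtype.ext (by ext; simp [dia, Matrix.single]; split_ifs <;> simp)

/-- The elementary transvection. -/
def shM {k l : Fin n} (h : k ≠ l) (b : F) : GL (Fin n) F :=
  ⟨transvection k l b, transvection k l (-b),
    by rw [transvection_mul_transvection_same k l h, add_neg_cancel, transvection_zero],
    by rw [transvection_mul_transvection_same k l h, neg_add_cancel, transvection_zero]⟩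

theorem shM_mul {k l : Fin n} (h : k ≠ l) (a b : F) : shM h a * shM h b = shM h (a + b) :=
  Units.ext (transvection_mul_transvection_same k l h a b)

theorem shM_zero {k l : Fin n} (h : k ≠ l) : shM (F := F) h 0 = 1 :=
  Units.ext (transvection_zero k l)

theorem shM_mulVec {k l : Fin n} (h : k ≠ l) (b : F) (y : Fin n → F) :
    (shM h b).1 *ᵥ y = y + Pi.single k (b * y l) := by
  show transvection k l b *ᵥ y = _
  simp [transvection, Matrix.add_mulVec]
  funext a
  rcases eq_or_ne k a with rfl | hka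
  · simp [Matrix.mulVec, dotProduct, Matrix.single_apply]
  · simp [Matrix.mulVec, dotProduct, Matrix.single_apply, hka, hka.symm]

/-- The shear element of the Levi factor. -/
noncomputable def sh {k l : Fin n} (h : k ≠ l) (b : F) : Matrix.symplecticGroup (Fin n) F := lv (shM h b)

theorem sh_coe {k l : Fin n} (h : k ≠ l) (b : F) :
    (sh h b).1 = fromBlocks (1 + single l k (-b)) 0 0 (1 + single k l b) := by
  rw [sh, lv_coe]
  show fromBlocks (transvection k l (-b))ᵀ 0 0 (transvection k l b) = _
  simp [transvection]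

theorem sh_mul {k l : Fin n} (h : k ≠ l) (a b : F) : sh h a * sh h b = sh h (a + b) := by
  rw [sh, sh, ← map_mul, shM_mul]; rfl

theorem sh_zero {k l : Fin n} (h : k ≠ l) : sh (F := F) h 0 = 1 := by rw [sh, shM_zero, map_one]

/-- Diagonal matrices as units. -/
def dgM (d : Fin n → Fˣ) : GL (Fin n) F :=
  ⟨diagonal fun k => (d k : F), diagonal fun k => ((d k)⁻¹ : Fˣ), by simp, by simp⟩

theorem dgM_mul (d e : Fin n → Fˣ) : dgM d * dgM e = dgM (d * e) :=
  Units.ext (by simp [dgM])

theorem dgM_mulVec (d : Fin n → Fˣ) (y : Fin n → F) (k : Fin n) : ((dgM d).1 *ᵥ y) k = d k * y k := by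
  simp [dgM, mulVec_diagonal]

theorem lv_dgM_coe (d : Fin n → Fˣ) : (lv (dgM d)).1 =
    fromBlocks (diagonal fun k => ((d k)⁻¹ : Fˣ) : Matrix (Fin n) (Fin n) F) 0 0 (diagonal fun k => (d k : F)) := by
  rw [lv_coe]
  show fromBlocks (diagonal _)ᵀ 0 0 (diagonal _) = _
  rw [diagonal_transpose]

/-- The element exchanging the coordinates with index `i` of the two blocks. -/
def wE (i : Fin n) : Matrix.symplecticGroup (Fin n) F :=
  ⟨fromBlocks (1 - single i i 1) (single i i 1) (-single i i 1) (1 - single i i 1), by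
    rw [SymplecticGroup.mem_iff, Matrix.J, fromBlocks_transpose, fromBlocks_multiply, fromBlocks_multiply,
      fromBlocks_inj]
    simp [sub_mul, mul_sub]
    try abel⟩

theorem wE_coe (i : Fin n) : (wE (F := F) i).1 =
    fromBlocks (1 - single i i 1) (single i i 1) (-single i i 1) (1 - single i i 1) := rfl

theorem rd_offd_wE {i j : Fin n} (h : i ≠ j) (b : F) :
    rd (offd i j b) * wE i = wE i * sh h b := by
  refine Subtype.ext ?_
  simp [rd_coe, wE_coe, sh_coe, offd, fromBlocks_multiply, sub_mul, mul_sub, add_mul, mul_add, h, h.symm,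
    single_mul_single_of_ne, Matrix.single_neg]
  try abel

theorem wE_rd_offd {i j : Fin n} (h : i ≠ j) (b : F) :
    wE i * rd (offd i j b) = sh h (-b) * wE i := by
  refine Subtype.ext ?_
  simp [rd_coe, wE_coe, sh_coe, offd, fromBlocks_multiply, sub_mul, mul_sub, add_mul, mul_add, h, h.symm,
    single_mul_single_of_ne, Matrix.single_neg]
  try abel
  try exact ⟨trivial, trivial⟩

theorem rd_comm_wE {i : Fin n} {S : SymMat F n} (hS : ∀ k, S.1 i k = 0) :
    rd S * wE i = wE i * rd S := by
  have hS' : ∀ k, S.1 k i = 0 := fun k => by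
    rw [← hS k]; exact congrFun (congrFun S.2 i) k
  have h1 : S.1 * single i i (1 : F) = 0 := by
    ext a b
    rw [Matrix.mul_apply]
    refine Finset.sum_eq_zero fun j _ => ?_
    rcases eq_or_ne j i with rfl | hj
    · simp [hS']
    · simp [Matrix.single_apply, Ne.symm hj]
  have h2 : single i i (1 : F) * S.1 = 0 := by
    ext a b
    rw [Matrix.mul_apply]
    refine Finset.sum_eq_zero fun j _ => ?_
    rcases eq_or_ne j i with rfl | hj
    · simp [hS]
    · simp [Matrix.single_apply, Ne.symm hj]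
  refine Subtype.ext ?_
  simp [rd_coe, wE_coe, fromBlocks_multiply, sub_mul, mul_sub, h1, h2]
  abel

theorem wE_comm {i j : Fin n} (h : i ≠ j) : wE (F := F) i * wE j = wE j * wE i := by
  refine Subtype.ext ?_
  simp [wE_coe, fromBlocks_multiply, sub_mul, mul_sub, h, h.symm, single_mul_single_of_ne]
  refine ⟨?_, ?_, ?_, ?_⟩ <;> abel

theorem wE_lv_dgM (i : Fin n) (d : Fin n → Fˣ) :
    wE i * lv (dgM d) = lv (dgM (Function.update d i (d i)⁻¹)) * wE i := by
  refine Subtype.ext ?_
  rw [Submonoid.coe_mul, Submonoid.coe_mul, wE_coe, lv_dgM_coe, lv_dgM_coe, fromBlocks_multiply,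
    fromBlocks_multiply, ← diagonal_single, ← diagonal_one]
  simp only [diagonal_neg, diagonal_sub, diagonal_mul_diagonal, Matrix.zero_mul, Matrix.mul_zero, add_zero,
    zero_add, fromBlocks_inj, diagonal_eq_diagonal_iff]
  refine ⟨?_, ?_, ?_, ?_⟩ <;> intro k <;> by_cases hk : k = i <;> simp [hk, mul_comm]

theorem wE_mul_self (i : Fin n) :
    wE (F := F) i * wE i = lv (dgM (Pi.mulSingle i (-1))) := by
  refine Subtype.ext ?_
  rw [Submonoid.coe_mul, wE_coe, lv_dgM_coe, fromBlocks_multiply, ← diagonal_single, ← diagonal_one]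
  simp only [diagonal_neg, diagonal_sub, diagonal_mul_diagonal, diagonal_add, ← diagonal_zero,
    fromBlocks_inj, diagonal_eq_diagonal_iff]
  refine ⟨?_, ?_, ?_, ?_⟩ <;> intro k <;> by_cases hk : k = i <;> simp [hk]

theorem dia_wE_dia (i : Fin n) (a : Fˣ) :
    rd (dia i (a : F)) * wE i * rd (dia i ((a⁻¹ : Fˣ) : F)) =
      lv (dgM (Pi.mulSingle i a⁻¹)) * wE i * rd (dia i (-(a : F))) * wE i := by
  refine Subtype.ext ?_
  simp only [Submonoid.coe_mul, rd_coe, wE_coe, lv_dgM_coe, dia, fromBlocks_multiply, ← diagonal_single,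
    ← diagonal_one]
  simp only [diagonal_neg, diagonal_sub, diagonal_mul_diagonal, diagonal_add, ← diagonal_zero,
    fromBlocks_inj, diagonal_eq_diagonal_iff]
  refine ⟨?_, ?_, ?_, ?_⟩ <;> intro k <;> by_cases hk : k = i <;> simp [hk]

/-- The group is generated by the radical, the Levi factor and one exchanging element. -/
theorem mem_of_generators [Fintype F] (i : Fin n) (H : Subgroup (Matrix.symplecticGroup (Fin n) F))
    (hR : ∀ S, rd S ∈ H) (hL : ∀ M, lv M ∈ H) (hW : wE i ∈ H) (g : Matrix.symplecticGroup (Fin n) F) :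
    g ∈ H := by
  classical
  suffices h : Subgroup.closure (ClassicalSimple.sympTransvectionSet n F) ≤ H by
    exact h (by rw [ClassicalSimple.closure_sympTransvectionSet]; trivial)
  rw [Subgroup.closure_le]
  let e : Fin n ⊕ Fin n → F := Pi.single (Sum.inl i) 1
  have hGL : ∀ x : Fin n → F, x ≠ 0 → ∀ k : Fin n, ∃ M : GL (Fin n) F, M.1 *ᵥ x = Pi.single k 1 := by
    intro x hx k
    obtain ⟨r, hr⟩ : ∃ r : Module.Dual F (Fin n → F), r x = 1 := by
      obtain ⟨l, hl⟩ := Function.ne_iff.1 hx
      exact ⟨(x l)⁻¹ • LinearMap.proj l, inv_mul_cancel₀ hl⟩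
    obtain ⟨A, hA, -⟩ := Weil.exists_move (r := r) (l := LinearMap.proj k) (e := x)
      (u := Pi.single k 1) one_ne_zero hr (by simp)
    refine ⟨Matrix.GeneralLinearGroup.toLin.symm (LinearMap.GeneralLinearGroup.ofLinearEquiv A), ?_⟩
    have h1 : Matrix.GeneralLinearGroup.toLin
        (Matrix.GeneralLinearGroup.toLin.symm (LinearMap.GeneralLinearGroup.ofLinearEquiv A)) =
        LinearMap.GeneralLinearGroup.ofLinearEquiv A := MulEquiv.apply_symm_apply _ _
    exact (LinearMap.congr_fun (congrArg Units.val h1) x).trans hA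
  have hto : ∀ v : Fin n ⊕ Fin n → F, v ≠ 0 → ∃ g ∈ H, g.1 *ᵥ e = v := by
    intro v hv
    suffices h : ∃ g ∈ H, g.1 *ᵥ v = e by
      obtain ⟨g, hg, hgv⟩ := h
      refine ⟨g⁻¹, inv_mem hg, ?_⟩
      rw [← hgv, mulVec_mulVec, ← Submonoid.coe_mul, inv_mul_cancel, Submonoid.coe_one, one_mulVec]
    have step : ∀ x : Fin n → F, x ≠ 0 → ∃ g ∈ H, g.1 *ᵥ Sum.elim x 0 = e := by
      intro x hx
      obtain ⟨M, hM⟩ := hGL x hx i
      let A : GL (Fin n) F := ⟨(↑M⁻¹ : Matrix (Fin n) (Fin n) F)ᵀ, M.1ᵀ,
        by rw [← transpose_mul, Units.mul_inv, transpose_one],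
        by rw [← transpose_mul, Units.inv_mul, transpose_one]⟩
      refine ⟨lv A, hL A, ?_⟩
      rw [lv_coe, fromBlocks_mulVec]
      have hA : ((↑A⁻¹ : Matrix (Fin n) (Fin n) F))ᵀ = M.1 := transpose_transpose _
      simp only [Sum.elim_comp_inl, Sum.elim_comp_inr, hA, hM, zero_mulVec, mulVec_zero, add_zero]
      funext k
      rcases k with k | k <;> simp [e, Pi.single_apply]
    obtain ⟨x, y, rfl⟩ : ∃ x y, v = Sum.elim x y := ⟨_, _, (Sum.elim_comp_inl_inr v).symm⟩
    by_cases hy : y = 0
    · subst hy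
      exact step x fun hx => hv (by subst hx; exact Sum.elim_zero_zero)
    obtain ⟨M, hM⟩ := hGL y hy i
    set x' := (↑M⁻¹ : Matrix (Fin n) (Fin n) F)ᵀ *ᵥ x with hx'
    let S : SymMat F n := ⟨-(vecMulVec x' (Pi.single i 1) + vecMulVec (Pi.single i 1) x' -
        x' i • single i i 1), by
      show Matrix.transpose _ = _
      simp [transpose_vecMulVec, add_comm]⟩
    have hS : x' + S.1 *ᵥ Pi.single i 1 = 0 := by
      funext k
      rcases eq_or_ne k i with rfl | hk
      · simp [S, Matrix.mulVec, dotProduct, Matrix.single_apply, Matrix.vecMulVec_apply, Pi.single_apply]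
        try ring
      · simp [S, Matrix.mulVec, dotProduct, Matrix.single_apply, Matrix.vecMulVec_apply, Pi.single_apply, hk, hk.symm]
        try ring
    have h1 : (rd S * lv M).1 *ᵥ Sum.elim x y = Sum.elim (0 : Fin n → F) (Pi.single i (1 : F)) := by
      rw [Submonoid.coe_mul, ← mulVec_mulVec, lv_coe, rd_coe, fromBlocks_mulVec]
      rw [fromBlocks_mulVec]
      simp only [Sum.elim_comp_inl, Sum.elim_comp_inr, zero_mulVec, add_zero, zero_add, one_mulVec, hM, ← hx', hS]
    have h2 : (wE i).1 *ᵥ Sum.elim (0 : Fin n → F) (Pi.single i (1 : F)) =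
        Sum.elim (Pi.single i (1 : F)) 0 := by
      rw [wE_coe, fromBlocks_mulVec, Sum.elim_comp_inl, Sum.elim_comp_inr]
      funext k
      rcases k with k | k
      · rcases eq_or_ne k i with rfl | hk
        · simp [Matrix.mulVec, dotProduct, Matrix.single_apply]
        · simp [Matrix.mulVec, dotProduct, Matrix.single_apply, hk, hk.symm]
      · rcases eq_or_ne k i with rfl | hk
        · simp [Matrix.mulVec, dotProduct, Matrix.single_apply, Matrix.one_apply]
        · simp [Matrix.mulVec, dotProduct, Matrix.single_apply, Matrix.one_apply, hk, hk.symm]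
    obtain ⟨g, hg, hgv⟩ := step (Pi.single i (1 : F)) fun h => (one_ne_zero : (1 : F) ≠ 0) (by simpa using congrFun h i)
    refine ⟨g * wE i * (rd S * lv M), mul_mem (mul_mem hg hW) (mul_mem (hR S) (hL M)), ?_⟩
    rw [Submonoid.coe_mul, ← mulVec_mulVec, h1, Submonoid.coe_mul, ← mulVec_mulVec, h2, hgv]
  rintro A ⟨v, c, hA⟩
  obtain rfl | hv := eq_or_ne v 0
  · have : A = 1 := Subtype.ext (by rw [hA]; simp [Cfsg.sympTransvection])
    rw [this]; exact one_mem H
  obtain ⟨g, hg, hgv⟩ := hto v hv
  have hT : ∀ a : F, ClassicalSimple.sympTransvectionElt e a ∈ H := fun a => by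
    rcases em (∀ x, (ClassicalSimple.sympTransvectionElt e a).1 *ᵥ x = (rd (dia i a)).1 *ᵥ x) with h | h
    · rw [show ClassicalSimple.sympTransvectionElt e a = rd (dia i a) from
        Subtype.ext (Matrix.toLin'.injective (LinearMap.ext fun x => h x))]
      exact hR _
    · refine absurd (fun x => ?_) h
      show Cfsg.sympTransvection n e a *ᵥ x = _
      rw [ClassicalSimple.sympTransvection_mulVec, rd_coe, fromBlocks_mulVec, ClassicalSimple.sympBilin_apply]
      funext k
      rcases k with k | k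
      · rcases eq_or_ne k i with rfl | hk
        · simp [e, dia, Cfsg.sympForm, Matrix.J, fromBlocks_mulVec, dotProduct,
            Fintype.sum_sum_type, Matrix.mulVec, Matrix.one_apply, Matrix.single_apply, Pi.single_apply]
        · simp [e, dia, Cfsg.sympForm, Matrix.J, fromBlocks_mulVec, dotProduct,
            Fintype.sum_sum_type, Matrix.mulVec, Matrix.one_apply, Matrix.single_apply, hk, hk.symm]
      · simp [e]
  have : A = g * ClassicalSimple.sympTransvectionElt e c * g⁻¹ := by
    refine Subtype.ext (Matrix.toLin'.injective (LinearMap.ext fun x => ?_))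
    rw [toLin'_apply, toLin'_apply, hA, Submonoid.coe_mul, Submonoid.coe_mul, ← mulVec_mulVec, ← mulVec_mulVec]
    show _ = g.1 *ᵥ (Cfsg.sympTransvection n e c *ᵥ _)
    rw [ClassicalSimple.sympTransvection_mulVec, ClassicalSimple.sympTransvection_mulVec, mulVec_add, mulVec_smul,
      hgv, mulVec_mulVec, ← Submonoid.coe_mul, mul_inv_cancel, Submonoid.coe_one, one_mulVec]
    congr 3
    have h := ClassicalSimple.mem_symplecticGroup_iff_form.1 g.2 ((g⁻¹).1 *ᵥ x) e
    rwa [mulVec_mulVec, ← Submonoid.coe_mul, mul_inv_cancel, Submonoid.coe_one, one_mulVec, hgv] at h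
  rw [this]
  exact mul_mem (mul_mem hg (hT c)) (inv_mem hg)

end Cfsg.Agent.WeilUniq
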