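import Cfsg.Agent.Lib.WeilUniq.Spectrum

/-!
The action of the exchanging elements on weight vectors of rank one.
-/

set_option autoImplicit false

open Matrix
open Cfsg.Agent.Weil (SymMat)

namespace Cfsg.Agent.WeilUniq

variable {F : Type*} [Field F] [Fintype F] {n : ℕ} {U : Type*} [AddCommGroup U] [Module ℂ U]
  {ρ : Representation ℂ (Matrix.symplecticGroup (Fin n) F) U} {ψ : AddChar F ℂ}

theorem agree_of_P {φ φ' : AddChar (SymMat F n) ℂ} {v : U} (hv : v ∈ Wt ρ φ) {i : Fin n}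
    (hne : P ρ φ' (ρ (wE i) v) ≠ 0) {S : SymMat F n} (hS : ∀ k, S.1 i k = 0) : φ' S = φ S := by
  have h1 := P_rd (ρ := ρ) φ' S (ρ (wE i) v)
  rw [← rho_mul, rd_comm_wE hS, rho_mul, mem_Wt.1 hv S, map_smul, map_smul] at h1
  exact (smul_left_injective ℂ hne h1).symm

theorem offd_row {i k l : Fin n} (hk : k ≠ i) (hl : l ≠ i) (b : F) (a : Fin n) :
    (offd k l b).1 i a = 0 := by
  simp [offd, Matrix.single_apply, hk, hl]

theorem coeff_of_P (hψ : ψ.IsPrimitive) (h2 : (2 : F) ≠ 0) (hs : Small ρ ψ) {c : F} {y : Fin n → F} {v : U}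
    (hv : v ∈ Wt ρ (chi ψ c y)) {i : Fin n} {φ : AddChar (SymMat F n) ℂ}
    (hne : P ρ φ (ρ (wE i) v) ≠ 0) :
    (φ = 1 ∧ ∀ k l, k ≠ i → l ≠ i → c * y k * y l = 0) ∨
      ∃ c' y', φ = chi ψ c' y' ∧ ∀ k l, k ≠ i → l ≠ i → c * y k * y l = c' * y' k * y' l := by
  by_cases h1 : φ = 1
  · refine Or.inl ⟨h1, fun k l hk hl => mul_left_cancel₀ h2 (mulShift_inj hψ fun t => ?_)⟩
    rw [← chi_offd, ← agree_of_P hv hne (offd_row hk hl t), h1, AddChar.one_apply, mul_zero, zero_mul,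
      AddChar.map_zero_eq_one]
  · obtain ⟨c', y', rfl⟩ := hs φ h1 ⟨_, hne, P_mem _ _⟩
    refine Or.inr ⟨c', y', rfl, fun k l hk hl => mul_left_cancel₀ h2 (mulShift_inj hψ fun t => ?_)⟩
    rw [← chi_offd, ← chi_offd, agree_of_P hv hne (offd_row hk hl t)]

theorem wE_weight (hψ : ψ.IsPrimitive) (h2 : (2 : F) ≠ 0) (hs : Small ρ ψ) {c : F} (hc : c ≠ 0)
    {y : Fin n → F} {v : U} (hv : v ∈ Wt ρ (chi ψ c y)) {i k : Fin n} (hk : k ≠ i) (hy : y k ≠ 0)
    {φ : AddChar (SymMat F n) ℂ} (hne : P ρ φ (ρ (wE i) v) ≠ 0) :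
    ∃ s, φ = chi ψ c (y + Pi.single i s) := by
  have hkk : c * y k * y k ≠ 0 := mul_ne_zero (mul_ne_zero hc hy) hy
  rcases coeff_of_P hψ h2 hs hv hne with ⟨-, h⟩ | ⟨c', y', rfl, h⟩
  · exact absurd (h k k hk hk) hkk
  have hy' : c' * y' k ≠ 0 := fun e => hkk (by rw [h k k hk hk, e, zero_mul])
  set μ := c * y k / (c' * y' k) with hμ
  have hμ0 : μ ≠ 0 := div_ne_zero (mul_ne_zero hc hy) hy'
  have hl : ∀ l, l ≠ i → y' l = μ * y l := fun l hl => by
    rw [hμ, div_mul_eq_mul_div, h k l hk hl]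
    exact (mul_div_cancel_left₀ _ hy').symm
  have hcμ : c' * μ * μ = c := mul_left_cancel₀ (mul_ne_zero hy hy)
    (by linear_combination -(h k k hk hk) - c' * (y' k + μ * y k) * hl k hk)
  refine ⟨y' i / μ - y i, chi_congr fun a b => ?_⟩
  have hz : ∀ a, y' a = μ * (y + Pi.single i (y' i / μ - y i) : Fin n → F) a := fun a => by
    rcases eq_or_ne a i with rfl | ha
    · simp [mul_div_cancel₀ _ hμ0]
    · simp [ha, hl a ha]
  rw [hz a, hz b, ← hcμ]
  ring

/-- The quadratic character sum attached to `c` and `a`. -/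
noncomputable def gauss (ψ : AddChar F ℂ) (c a : F) : ℂ := ∑ s : F, ψ (-(c * (s * a) * (s * a)))

theorem sh_mem {i k : Fin n} (hik : i ≠ k) {c : F} {y : Fin n → F} {v : U} (hv : v ∈ Wt ρ (chi ψ c y))
    (s : F) : ρ (sh hik s) v ∈ Wt ρ (chi ψ c (y + Pi.single i (s * y k))) := by
  have := lv_mem_chi (shM hik s) hv
  rwa [shM_mulVec] at this

theorem single_chi_inj (hψ : ψ.IsPrimitive) (h2 : (2 : F) ≠ 0) {i k : Fin n} (hik : i ≠ k) {c : F}
    (hc : c ≠ 0) {y : Fin n → F} (hy : y k ≠ 0) :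
    Function.Injective fun s : F => chi ψ c (y + Pi.single i s) := fun s t h => by
  rcases chi_inj hψ h2 hc h with e | e
  · simpa using congrFun e i
  · have := congrFun e k
    simp [hik.symm] at this
    exact absurd (by linear_combination this : (2 : F) * y k = 0) (mul_ne_zero h2 hy)

/-- The image of a weight vector under an exchanging element. -/
theorem wE_formula (hψ : ψ.IsPrimitive) (h2 : (2 : F) ≠ 0) (hs : Small ρ ψ) {i k : Fin n} (hik : i ≠ k)
    {c : F} (hc : c ≠ 0) {y : Fin n → F} (hyi : y i = 0) (hy : y k ≠ 0) {v : U}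
    (hv : v ∈ Wt ρ (chi ψ c y)) :
    ρ (wE i) v = (gauss ψ c (y k))⁻¹ • ∑ s : F, ρ (sh hik s) v := by
  classical
  have hx : ∀ v ∈ Wt ρ (chi ψ c y),
      ρ (wE i) v = ∑ s : F, ρ (sh hik s) (P ρ (chi ψ c y) (ρ (wE i) v)) := by
    intro v hv
    set x := ρ (wE i) v with hxdef
    have hfix : ∀ b, ρ (sh hik b) x = x := fun b => by
      rw [hxdef, ← rho_mul, show sh hik b = sh hik (-(-b)) by rw [neg_neg], ← wE_rd_offd, rho_mul,
        mem_Wt.1 hv, chi_offd, hyi, mul_zero, zero_mul, mul_zero, zero_mul, AddChar.map_zero_eq_one,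
        one_smul]
    have hP : ∀ s : F, P ρ (chi ψ c (y + Pi.single i (s * y k))) x = ρ (sh hik s) (P ρ (chi ψ c y) x) :=
      fun s => by
      conv_lhs => rw [← hfix s]
      have := P_lv_chi (ρ := ρ) (ψ := ψ) (shM hik s) c y x
      rw [shM_mulVec] at this
      exact this
    have hinj : Function.Injective fun s : F => chi ψ c (y + Pi.single i (s * y k)) :=
      (single_chi_inj hψ h2 hik hc hy).comp (mul_left_injective₀ hy)
    conv_lhs => rw [← sum_P (ρ := ρ) x]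
    rw [← Finset.sum_subset (Finset.subset_univ (Finset.univ.image fun s : F =>
      chi ψ c (y + Pi.single i (s * y k)))) (fun φ _ hφ => ?_), Finset.sum_image fun a _ b _ e => hinj e]
    · exact Finset.sum_congr rfl fun s _ => hP s
    · by_contra hne
      obtain ⟨t, rfl⟩ := wE_weight hψ h2 hs hc hv hik.symm hy hne
      exact hφ (Finset.mem_image.2 ⟨t / y k, Finset.mem_univ _, by rw [div_mul_cancel₀ _ hy]⟩)
  set T : U →ₗ[ℂ] U := (P ρ (chi ψ c y)).comp (ρ (wE i)) with hT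
  have hTi : ∀ v ∈ Wt ρ (chi ψ c y), T v = 0 → v = 0 := fun v hv h0 => by
    refine rho_inj (ρ := ρ) (g := wE i) ?_
    rw [hx v hv, show P ρ (chi ψ c y) (ρ (wE i) v) = 0 from h0]
    simp
  have hTT : ∀ v ∈ Wt ρ (chi ψ c y), T v = gauss ψ c (y k) • T (T v) := by
    intro v hv
    have hid : rd (dia i (1 : F)) * wE i * rd (dia i (1 : F)) = wE i * rd (dia i (-(1 : F))) * wE i := by
      have := dia_wE_dia i (1 : Fˣ)
      simpa [show dgM (1 : Fin n → Fˣ) = (1 : GL (Fin n) F) from Units.ext (by simp [dgM])] using this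
    have h := congrArg (fun g => P ρ (chi ψ c y) (ρ g v)) hid
    simp only [rho_mul, mem_Wt.1 hv, chi_dia, hyi, mul_zero, zero_mul, AddChar.map_zero_eq_one, one_smul,
      P_rd] at h
    refine h.trans ?_
    conv_lhs => rw [hx v hv]
    simp only [map_sum]
    rw [gauss, Finset.sum_smul]
    refine Finset.sum_congr rfl fun s _ => ?_
    rw [mem_Wt.1 (sh_mem hik (P_mem _ _) s), chi_dia, map_smul, map_smul]
    rw [← rho_mul, ← rd_offd_wE hik s, rho_mul, P_rd, chi_offd, hyi, mul_zero, zero_mul, mul_zero, zero_mul,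
      AddChar.map_zero_eq_one, one_smul]
    congr 1
    simp [hyi]
  have hkey : v = gauss ψ c (y k) • T v := by
    refine sub_eq_zero.1 (hTi _ (sub_mem hv (Submodule.smul_mem _ _ (P_mem _ _))) ?_)
    rw [map_sub, map_smul, ← hTT v hv, sub_self]
  by_cases hG : gauss ψ c (y k) = 0
  · rw [hG, zero_smul] at hkey
    simp [hkey]
  rw [hx v hv, Finset.smul_sum]
  refine Finset.sum_congr rfl fun s _ => ?_
  rw [← map_smul]
  congr 1
  conv_rhs => rw [hkey, smul_smul, inv_mul_cancel₀ hG, one_smul]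
  rfl

end Cfsg.Agent.WeilUniq
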