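import Cfsg.Agent.Lib.Weil.Representation

/-!
Both parts of the Weil representation are irreducible.
-/

set_option autoImplicit false

open Matrix Module
open Cfsg.Agent.Weil

namespace Cfsg.Agent.WeilUniq

variable {F : Type*} [Field F] [Fintype F] [DecidableEq F] {n : ℕ}

theorem exists_part_rep (h2 : (2 : F) ≠ 0) (ε : ℂ) (k : ℕ) (hk : finrank ℂ (sign F n ε) = k) (hpos : 1 ≤ k) :
    ∃ ρ : Representation ℂ (Matrix.symplecticGroup (Fin n) F) (Fin k → ℂ), ρ.IsIrreducible := by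
  classical
  obtain ⟨ψ, hψ⟩ : ∃ ψ : AddChar F ℂ, ψ.IsPrimitive := by
    obtain ⟨ψ, hψ⟩ := (AddChar.exists_apply_ne_zero (a := (1 : F))).2 one_ne_zero
    exact ⟨ψ, AddChar.IsPrimitive.of_ne_one (AddChar.ne_one_iff.2 ⟨1, hψ⟩)⟩
  obtain ⟨W, hW⟩ := exists_normalised (n := n) h2 hψ
  let e : (Fin k → ℂ) ≃ₗ[ℂ] sign F n ε :=
    LinearEquiv.ofFinrankEq _ _ (by rw [Module.finrank_fin_fun, hk])
  let ρ : Representation ℂ (Matrix.symplecticGroup (Fin n) F) (Fin k → ℂ) :=
    (e.symm.conjAlgEquiv ℂ).toMonoidHom.comp ((partHom ε).comp W)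
  have hρ : ∀ g x, ((e (ρ g x) : sign F n ε) : (Fin n → F) → ℂ) = (W g).1 *ᵥ (e x).1 := fun g x => by
    simp [ρ, partHom, part]
  let ι : (Fin k → ℂ) →ₗ[ℂ] ((Fin n → F) → ℂ) :=
    (sign F n ε).subtype ∘ₗ e.toLinearMap
  have hι : Function.Injective ι := Subtype.val_injective.comp e.injective
  have : Nonempty (Fin k) := ⟨⟨0, hpos⟩⟩
  have : Nontrivial (Subrepresentation ρ) := ⟨⊥, ⊤, fun h => by
    have := congrArg Subrepresentation.toSubmodule h
    exact bot_ne_top (α := Submodule ℂ (Fin k → ℂ)) this⟩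
  refine ⟨ρ, ⟨fun U => ?_⟩⟩
  by_cases hU : U.toSubmodule = ⊥
  · exact Or.inl (Subrepresentation.toSubmodule_injective hU)
  refine Or.inr (Subrepresentation.toSubmodule_injective (eq_top_iff.2 fun x _ => ?_))
  show x ∈ U.toSubmodule
  set U' := U.toSubmodule.map ι with hU'
  -- the intertwiners preserve `U'`
  have hst : ∀ g (T : Matrix (Fin n → F) (Fin n → F) ℂ), Intertwines ψ g T →
      ∀ f ∈ U', T *ᵥ f ∈ U' := by
    rintro g T hT _ ⟨u, hu, rfl⟩
    obtain ⟨S, hS, hWg⟩ := hW g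
    obtain ⟨c, -, rfl⟩ := intertwines_unique h2 hψ hS hT
    have hmem : ι (ρ g u) ∈ U' := ⟨_, U.apply_mem_toSubmodule g hu, rfl⟩
    have hne : nu S ≠ 0 := by
      intro h0
      obtain ⟨u', hu', hne⟩ := (Submodule.ne_bot_iff _).1 hU
      have h0' : ρ g u' = 0 := hι (by
        show ((e (ρ g u') : sign F n ε) : (Fin n → F) → ℂ) = ι 0
        rw [hρ, map_zero, hWg, h0, zero_smul]
        simp)
      have := congrArg (ρ g⁻¹) h0'
      rw [map_zero, ← Module.End.mul_apply, ← map_mul, inv_mul_cancel, map_one] at this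
      exact hne this
    have heq : c • (S.1 *ᵥ ι u) = (c * (nu S)⁻¹) • ι (ρ g u) := by
      show _ = _ • ((e (ρ g u) : sign F n ε) : (Fin n → F) → ℂ)
      rw [hρ, hWg]
      simp [ι, Matrix.smul_mulVec, smul_smul, hne]
    rw [Matrix.smul_mulVec, heq]
    exact Submodule.smul_mem _ _ hmem
  choose T hT using fun g : Matrix.symplecticGroup (Fin n) F => exists_intertwines h2 hψ g
  have hTmem : ∀ g, IsUnit (T g).det := fun g => (Matrix.isUnit_iff_isUnit_det _).1 (hT g).1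
  let : Fintype (Matrix.symplecticGroup (Fin n) F) := Fintype.ofFinite _
  obtain ⟨C, hC⟩ := U'.exists_isCompl
  let p₀ := LinearMap.toMatrix' (U'.subtype ∘ₗ Submodule.projectionOnto U' C hC)
  let M : Matrix (Fin n → F) (Fin n → F) ℂ :=
    ∑ g : Matrix.symplecticGroup (Fin n) F, T g * p₀ * (T g)⁻¹
  have hp0 : ∀ f, p₀ *ᵥ f = (Submodule.projectionOnto U' C hC f : (Fin n → F) → ℂ) := fun f => by
    simp [p₀, LinearMap.toMatrix'_mulVec]
  have hMU : ∀ f, M *ᵥ f ∈ U' := fun f => by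
    rw [Matrix.sum_mulVec]
    refine Submodule.sum_mem _ fun g _ => ?_
    rw [← Matrix.mulVec_mulVec, ← Matrix.mulVec_mulVec]
    exact hst g _ (hT g) _ (by rw [hp0]; exact SetLike.coe_mem _)
  have hMid : ∀ f ∈ U', M *ᵥ f = (Fintype.card (Matrix.symplecticGroup (Fin n) F) : ℂ) • f := by
    intro f hf
    have hterm : ∀ g, (T g * p₀ * (T g)⁻¹) *ᵥ f = f := fun g => by
      have hinv : Intertwines ψ g⁻¹ (T g)⁻¹ := by
        refine ⟨(Matrix.isUnit_nonsing_inv_iff).2 (hT g).1, fun v => ?_⟩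
        have h := (hT g).2 ((g⁻¹).1 *ᵥ v)
        rw [Matrix.mulVec_mulVec, ← Submonoid.coe_mul, mul_inv_cancel, Submonoid.coe_one,
          Matrix.one_mulVec] at h
        have h' := congrArg (fun A => (T g)⁻¹ * A * (T g)⁻¹) h
        simp only [← Matrix.mul_assoc, Matrix.nonsing_inv_mul _ (hTmem g), Matrix.one_mul] at h'
        simp only [Matrix.mul_assoc, Matrix.mul_nonsing_inv _ (hTmem g), Matrix.mul_one] at h'
        exact h'.symm
      rw [← Matrix.mulVec_mulVec, ← Matrix.mulVec_mulVec, hp0,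
        Submodule.projectionOnto_apply_left hC ⟨(T g)⁻¹ *ᵥ f, hst _ _ hinv f hf⟩, Matrix.mulVec_mulVec,
        Matrix.mul_nonsing_inv _ (hTmem g), Matrix.one_mulVec]
    simp only [M, Matrix.sum_mulVec, hterm, Finset.sum_const, Finset.card_univ, Nat.cast_smul_eq_nsmul]
  obtain ⟨a, b, hab⟩ := commutant h2 hψ M fun h S hS => by
    simp only [M, Finset.mul_sum, Finset.sum_mul]
    refine Fintype.sum_equiv (Equiv.mulLeft h) _ _ fun g => ?_
    obtain ⟨c, hc, e⟩ := intertwines_unique h2 hψ (hS.mul (hT g)) (hT (h * g))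
    have hS' : IsUnit S.det := (Matrix.isUnit_iff_isUnit_det _).1 hS.1
    show _ = T (h * g) * p₀ * (T (h * g))⁻¹ * S
    have hi : (c • (S * T g))⁻¹ = c⁻¹ • ((T g)⁻¹ * S⁻¹) := by
      refine Matrix.inv_eq_right_inv ?_
      rw [smul_mul_smul_comm, mul_inv_cancel₀ hc, one_smul, Matrix.mul_assoc, ← Matrix.mul_assoc (T g),
        Matrix.mul_nonsing_inv _ (hTmem g), Matrix.one_mul, Matrix.mul_nonsing_inv _ hS']
    rw [e, hi]
    simp only [smul_mul_assoc, mul_smul_comm, smul_smul, inv_mul_cancel₀ hc, one_smul, Matrix.mul_assoc,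
      Matrix.nonsing_inv_mul _ hS', Matrix.mul_one]
  obtain ⟨u, hu, hune⟩ := (Submodule.ne_bot_iff _).1 hU
  have hev : ∀ y, M *ᵥ ι y = (a + b * ε) • ι y := fun y => by
    rw [hab, Matrix.add_mulVec, Matrix.smul_mulVec, Matrix.smul_mulVec, Matrix.one_mulVec,
      show parity F n *ᵥ ι y = ε • ι y from mem_sign.1 (e y).2]
    module
  have hval : a + b * ε ≠ 0 := fun h0 => by
    have h := hMid (ι u) ⟨u, hu, rfl⟩
    rw [hev, h0, zero_smul] at h
    rcases smul_eq_zero.1 h.symm with h | h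
    · exact Nat.cast_ne_zero.2 Fintype.card_ne_zero h
    · exact hune (hι (h.trans (map_zero ι).symm))
  have hx : ι x ∈ U' := by
    have h := Submodule.smul_mem U' (a + b * ε)⁻¹ (hMU (ι x))
    rwa [hev, smul_smul, inv_mul_cancel₀ hval, one_smul] at h
  obtain ⟨y, hy, hxy⟩ := hx
  exact hι hxy ▸ hy

end Cfsg.Agent.WeilUniq
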