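import Cfsg.Agent.Lib.WeilUniq.Classify
import Cfsg.Agent.Lib.WeilUniq.Parts
import Cfsg.Agent.Lib.Char.Multiplicity

/-!
The four representations of small degree.
-/

set_option autoImplicit false

open Matrix Module
open Cfsg.Agent.Weil (SymMat)

namespace Cfsg.Agent.WeilUniq

variable {F : Type*} [Field F] [Fintype F] {n : ℕ}

/-- Conjugation by the similitude of multiplier `ν`. -/
noncomputable def tw (ν : Fˣ) :
    Matrix.symplecticGroup (Fin n) F →* Matrix.symplecticGroup (Fin n) F where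
  toFun g := ⟨fromBlocks ((ν : F) • 1) 0 0 1 * g.1 * fromBlocks (((ν⁻¹ : Fˣ) : F) • 1) 0 0 1, by
    have hg : g.1 * J (Fin n) F * g.1ᵀ = J (Fin n) F := SymplecticGroup.mem_iff.1 g.2
    have e1 : fromBlocks (((ν⁻¹ : Fˣ) : F) • 1) 0 0 1 * J (Fin n) F *
        (fromBlocks (((ν⁻¹ : Fˣ) : F) • 1) 0 0 1)ᵀ = ((ν⁻¹ : Fˣ) : F) • J (Fin n) F := by
      simp [Matrix.J, fromBlocks_transpose, fromBlocks_multiply, fromBlocks_smul]
    have e2 : fromBlocks ((ν : F) • 1) 0 0 1 * J (Fin n) F * (fromBlocks ((ν : F) • 1) 0 0 1)ᵀ =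
        (ν : F) • J (Fin n) F := by
      simp [Matrix.J, fromBlocks_transpose, fromBlocks_multiply, fromBlocks_smul]
    rw [SymplecticGroup.mem_iff]
    set D : Matrix (Fin n ⊕ Fin n) (Fin n ⊕ Fin n) F := fromBlocks ((ν : F) • 1) 0 0 1
    set D' : Matrix (Fin n ⊕ Fin n) (Fin n ⊕ Fin n) F := fromBlocks (((ν⁻¹ : Fˣ) : F) • 1) 0 0 1
    calc D * g.1 * D' * J (Fin n) F * (D * g.1 * D')ᵀ
        = D * g.1 * (D' * J (Fin n) F * D'ᵀ) * g.1ᵀ * Dᵀ := by
          simp only [transpose_mul, Matrix.mul_assoc]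
      _ = ((ν⁻¹ : Fˣ) : F) • (D * (g.1 * J (Fin n) F * g.1ᵀ) * Dᵀ) := by
          rw [e1]; simp [Matrix.mul_assoc]
      _ = J (Fin n) F := by rw [hg, e2, smul_smul]; simp⟩
  map_one' := Subtype.ext (by simp [fromBlocks_multiply, fromBlocks_one])
  map_mul' g g' := by
    refine Subtype.ext ?_
    have h : fromBlocks (((ν⁻¹ : Fˣ) : F) • 1) 0 0 1 * fromBlocks ((ν : F) • 1) 0 0 1 =
        (1 : Matrix (Fin n ⊕ Fin n) (Fin n ⊕ Fin n) F) := by simp [fromBlocks_multiply, smul_smul, fromBlocks_one]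
    simp only [Submonoid.coe_mul, Matrix.mul_assoc]
    rw [← Matrix.mul_assoc (fromBlocks (((ν⁻¹ : Fˣ) : F) • 1) 0 0 1) (fromBlocks ((ν : F) • 1) 0 0 1), h,
      Matrix.one_mul]

theorem tw_surjective (ν : Fˣ) : Function.Surjective (tw (n := n) ν) := fun g => by
  refine ⟨tw ν⁻¹ g, Subtype.ext ?_⟩
  show fromBlocks _ _ _ _ * (fromBlocks _ _ _ _ * g.1 * fromBlocks _ _ _ _) * fromBlocks _ _ _ _ = g.1
  simp only [inv_inv, Matrix.mul_assoc]
  rw [← Matrix.mul_assoc (fromBlocks ((ν : F) • 1) 0 0 1) (fromBlocks _ 0 0 1)]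
  simp [fromBlocks_multiply, smul_smul, fromBlocks_one, mul_comm]

/-- The multiple of a symmetric matrix. -/
def scl (ν : F) (S : SymMat F n) : SymMat F n :=
  ⟨ν • S.1, by show (ν • S.1)ᵀ = _; rw [transpose_smul, show S.1ᵀ = S.1 from S.2]⟩

theorem tw_rd (ν : Fˣ) (S : SymMat F n) : tw ν (rd S) = rd (scl (ν : F) S) :=
  Subtype.ext (by
    show fromBlocks _ _ _ _ * (rd S).1 * fromBlocks _ _ _ _ = (rd (scl (ν : F) S)).1
    simp [rd_coe, scl, fromBlocks_multiply, smul_smul])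

variable {ψ : AddChar F ℂ} {i j : Fin n}

theorem chi_scl (c : F) (y : Fin n → F) (ν : F) (S : SymMat F n) :
    chi ψ c y (scl ν S) = chi ψ (c * ν) y S := by
  rw [chi_apply, chi_apply]
  congr 1
  show c * (y ⬝ᵥ ((ν • S.1) *ᵥ y)) = _
  rw [Matrix.smul_mulVec, dotProduct_smul, smul_eq_mul, mul_assoc]

theorem two_ne_zero_of_odd (hodd : Odd (Fintype.card F)) : (2 : F) ≠ 0 := fun h => by
  have h1 : (Fintype.card F : F) = 0 := FiniteField.cast_card_eq_zero F
  obtain ⟨c, hc⟩ := hodd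
  rw [hc, Nat.cast_add, Nat.cast_mul, Nat.cast_one, Nat.cast_ofNat, h, zero_mul, zero_add] at h1
  exact one_ne_zero h1

theorem arith_bound {q Q : ℕ} (hq : 3 ≤ q) (hQ : q * q ≤ Q) :
    2 * (q + 1) * ((Q - 1) / 2 + 1) < (Q - 1) * (Q - q) := by
  obtain ⟨a, rfl⟩ : ∃ a, q = a + 3 := ⟨q - 3, by omega⟩
  obtain ⟨b, rfl⟩ : ∃ b, Q = (a + 3) * (a + 3) + b := ⟨Q - (a + 3) * (a + 3), by omega⟩
  have h1 : (a + 3) * (a + 3) + b - 1 = a * a + 6 * a + 8 + b := by
    have : (a + 3) * (a + 3) = a * a + 6 * a + 9 := by ring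
    omega
  have h2 : (a + 3) * (a + 3) + b - (a + 3) = a * a + 5 * a + 6 + b := by
    have : (a + 3) * (a + 3) = a * a + 6 * a + 9 := by ring
    omega
  rw [h1, h2]
  have h3 : 2 * ((a * a + 6 * a + 8 + b) / 2 + 1) ≤ a * a + 6 * a + 10 + b := by omega
  calc 2 * (a + 3 + 1) * ((a * a + 6 * a + 8 + b) / 2 + 1)
      = (a + 4) * (2 * ((a * a + 6 * a + 8 + b) / 2 + 1)) := by ring
    _ ≤ (a + 4) * (a * a + 6 * a + 10 + b) := Nat.mul_le_mul_left _ h3
    _ < _ := by nlinarith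

/-- The four characters of small degree. -/
theorem weil_characters {F : Type*} [Field F] [Fintype F] (hodd : Odd (Fintype.card F)) (n : ℕ) (hn : 2 ≤ n) :
    Nat.card {χ : Cfsg.IrrCharacter ↥(Matrix.symplecticGroup (Fin n) F) //
        (χ : ↥(Matrix.symplecticGroup (Fin n) F) → ℂ) 1 = ((((Fintype.card F ^ n - 1) / 2 + 1 : ℕ)) : ℂ)} = 2 ∧
    Nat.card {χ : Cfsg.IrrCharacter ↥(Matrix.symplecticGroup (Fin n) F) //
        (χ : ↥(Matrix.symplecticGroup (Fin n) F) → ℂ) 1 = ((((Fintype.card F ^ n - 1) / 2 : ℕ)) : ℂ)} = 2 ∧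
    ∀ χ : Cfsg.IrrCharacter ↥(Matrix.symplecticGroup (Fin n) F),
      ∃ k : ℕ, (χ : ↥(Matrix.symplecticGroup (Fin n) F) → ℂ) 1 = k ∧
        (k = 1 ∨ k = (Fintype.card F ^ n - 1) / 2 + 1 ∨ k = (Fintype.card F ^ n - 1) / 2 ∨
          (Fintype.card F ^ n - 1) * (Fintype.card F ^ n - Fintype.card F) ≤
            2 * (Fintype.card F + 1) * k) := by
  classical
  let G := ↥(Matrix.symplecticGroup (Fin n) F)
  haveI : Finite (Cfsg.IrrCharacter G) := Char.irrFinite
  have h2 := two_ne_zero_of_odd hodd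
  obtain ⟨ψ, hψ⟩ : ∃ ψ : AddChar F ℂ, ψ.IsPrimitive := by
    obtain ⟨ψ, hψ⟩ := (AddChar.exists_apply_ne_zero (a := (1 : F))).2 one_ne_zero
    exact ⟨ψ, AddChar.IsPrimitive.of_ne_one (AddChar.ne_one_iff.2 ⟨1, hψ⟩)⟩
  obtain ⟨ν, hν⟩ : ∃ ν : F, ¬ IsSquare ν := FiniteField.exists_nonsquare fun h => h2 (by
    have := ringChar.Nat.cast_ringChar (R := F)
    rw [h] at this
    exact_mod_cast this)
  have hν0 : ν ≠ 0 := fun e => hν (by rw [e]; exact IsSquare.zero)
  let i₀ : Fin n := ⟨0, by omega⟩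
  let j₀ : Fin n := ⟨1, by omega⟩
  have hj₀ : j₀ ≠ i₀ := fun e => by simpa [i₀, j₀] using congrArg Fin.val e
  set q := Fintype.card F with hq
  have hq3 : 3 ≤ q := by
    have h1 := Fintype.one_lt_card (α := F)
    obtain ⟨a, ha⟩ := hodd
    omega
  have hQ : q * q ≤ q ^ n := by rw [← pow_two]; exact Nat.pow_le_pow_right (by omega) hn
  set d := (q ^ n - 1) / 2 with hd
  have hd4 : 4 ≤ d := by
    have : 9 ≤ q * q := Nat.mul_le_mul hq3 hq3
    omega
  have hbound := arith_bound hq3 hQ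
  -- the marks of the small irreducible representations
  let Sm : Type _ := {χ : Cfsg.IrrCharacter G //
    ∃ k : ℕ, (χ : G → ℂ) 1 = (k : ℂ) ∧ 2 ≤ k ∧ 2 * (q + 1) * k < (q ^ n - 1) * (q ^ n - q)}
  have hmark : ∀ x : Sm, ∃ (k : ℕ) (ρ : Representation ℂ G (Fin k → ℂ)),
      ρ.IsIrreducible ∧ ρ.character = (x.1 : G → ℂ) ∧ Small ρ ψ ∧
        ∃ b : Bool × Bool, ∃ u, Marked ρ ψ i₀ (if b.1 then 1 else ν) (if b.2 then 1 else -1) u := by
    rintro ⟨⟨χ, k, ρ, hρ, rfl⟩, l, hl, hl2, hlk⟩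
    have hkl : k = l := by
      have : (ρ.character 1 : ℂ) = (k : ℂ) := by rw [Representation.char_one, Module.finrank_fin_fun]
      exact_mod_cast this.symm.trans hl
    subst hkl
    have hs : Small ρ ψ := small_of_finrank hψ h2 hn (by rw [Module.finrank_fin_fun]; exact hlk)
    obtain ⟨c, ε, u, hc, hε, hu⟩ :=
      exists_marked hψ h2 hn hρ (by rw [Module.finrank_fin_fun]; exact hl2) hs hν i₀
    refine ⟨k, ρ, hρ, rfl, hs, (decide (c = 1), decide (ε = 1)), u, ?_⟩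
    have hν1 : ν ≠ 1 := fun e => hν (by rw [e]; exact IsSquare.one)
    rcases hc with rfl | rfl <;> rcases hε with rfl | rfl <;> norm_num [hν1] <;> exact hu
  choose K R hR hchar hsm key U hU using hmark
  have hinj : Function.Injective key := by
    intro x y e
    have hcne : (if (key x).1 then 1 else ν) ≠ 0 := by split_ifs <;> simp [hν0]
    obtain ⟨f, hf⟩ := equiv_of_marked hψ h2 (hsm x) (hsm y) (hR x) (hR y) hj₀ hcne (hU x)
      (by rw [e]; exact hU y)
    refine Subtype.ext (Subtype.ext ?_)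
    rw [← hchar x, ← hchar y, show R y = Char.conjRep (R x) f from MonoidHom.ext fun g =>
      LinearMap.ext fun v => by
        show R y g v = f (R x g (f.symm v))
        rw [hf, LinearEquiv.apply_symm_apply],
      Char.character_conjRep]
  have hle : Nat.card Sm ≤ 4 := (Nat.card_le_card_of_injective key hinj).trans (by simp)
  -- two characters in each degree
  have hex : ∀ (ε : ℂ) (k : ℕ), finrank ℂ (Weil.sign F n ε) = k → 2 ≤ k →
      2 * (q + 1) * k < (q ^ n - 1) * (q ^ n - q) →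
      2 ≤ Nat.card {χ : Cfsg.IrrCharacter G // (χ : G → ℂ) 1 = (k : ℂ)} := by
    intro ε k hk hk2 hklt
    obtain ⟨ρ, hρ⟩ := exists_part_rep (F := F) (n := n) h2 ε k hk (by omega)
    have hchar1 : ρ.character 1 = (k : ℂ) := by rw [Representation.char_one, Module.finrank_fin_fun]
    let νu : Fˣ := Units.mk0 ν hν0
    let ρ' : Representation ℂ G (Fin k → ℂ) := ρ.comp (tw νu)
    let χ₁ : {χ : Cfsg.IrrCharacter G // (χ : G → ℂ) 1 = (k : ℂ)} := ⟨⟨ρ.character, k, ρ, hρ, rfl⟩, hchar1⟩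
    let χ₂ : {χ : Cfsg.IrrCharacter G // (χ : G → ℂ) 1 = (k : ℂ)} :=
      ⟨⟨ρ.character ∘ tw νu, Char.IsIrrCharacter.comp_surjective ⟨k, ρ, hρ, rfl⟩ (tw νu) (tw_surjective νu)⟩, by
        show ρ.character (tw νu 1) = _
        rw [map_one, hchar1]⟩
    suffices hne : χ₁ ≠ χ₂ by
      have := Nat.card_le_card_of_injective (fun b : Bool => if b then χ₁ else χ₂) (by
        intro a b; rcases a <;> rcases b <;> simp [hne, hne.symm])
      simpa using this
    intro he
    have hce : ρ.character = ρ'.character := congrArg (fun x => (x.1 : G → ℂ)) he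
    obtain ⟨E⟩ := Char.nonempty_equiv_of_character_eq ρ ρ' hce
    have hs : Small ρ ψ := small_of_finrank hψ h2 hn (by rw [Module.finrank_fin_fun]; exact hklt)
    obtain ⟨c, ε', u, hc, -, hu⟩ :=
      exists_marked hψ h2 hn hρ (by rw [Module.finrank_fin_fun]; exact hk2) hs hν i₀
    have hc0 : c ≠ 0 := by rcases hc with rfl | rfl <;> simp [hν0]
    set v := E.toLinearEquiv u with hv
    have hv0 : v ≠ 0 := fun e => hu.1 (E.toLinearEquiv.map_eq_zero_iff.1 e)
    have hw : v ∈ Wt ρ (chi ψ (c * ν⁻¹) (Pi.single i₀ 1)) := fun S => by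
      have hS : rd S = tw νu (rd (scl ν⁻¹ S)) := by
        rw [tw_rd]
        congr 1
        exact Subtype.ext (by simp [scl, νu, smul_smul, mul_inv_cancel₀ hν0])
      rw [hS]
      show ρ' (rd (scl ν⁻¹ S)) v = _
      rw [hv]
      refine ((Representation.IntertwiningMap.isIntertwining _ _ E.toIntertwiningMap _ u).symm).trans ?_
      show E.toLinearEquiv (ρ (rd (scl ν⁻¹ S)) u) = _
      rw [mem_Wt.1 hu.2.1, map_smul]
      congr 1
      exact chi_scl c _ _ S
    have hne1 : chi ψ (c * ν⁻¹) (Pi.single i₀ (1 : F)) ≠ 1 := fun h => by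
      have := one_coeff hψ h2 h i₀ i₀
      simp [hc0, hν0] at this
    rcases weight_class hψ h2 hs hρ hj₀ hc0 hu v
      (φ := chi ψ (c * ν⁻¹) (Pi.single i₀ 1)) (by rw [P_self hw]; exact hv0) with h | ⟨y, h⟩
    · exact hne1 h
    · have := chi_coeff hψ h2 h i₀ i₀
      simp at this
      apply hν
      have hy : y i₀ ≠ 0 := fun e => by
        rw [e, mul_zero] at this
        simp [hc0, hν0] at this
      refine ⟨(y i₀)⁻¹, ?_⟩
      field_simp at this ⊢
      linear_combination -this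
  have hfr := Weil.finrank_sign (F := F) (n := n) h2
  have hpos := hex 1 (d + 1) hfr.2 (by omega) hbound
  have hneg := hex (-1) d hfr.1 (by omega)
    (lt_of_le_of_lt (Nat.mul_le_mul_left _ (Nat.le_succ d)) hbound)
  let Dp := {χ : Cfsg.IrrCharacter G // (χ : G → ℂ) 1 = (((d + 1 : ℕ)) : ℂ)}
  let Dm := {χ : Cfsg.IrrCharacter G // (χ : G → ℂ) 1 = ((d : ℕ) : ℂ)}
  let ι : Dp ⊕ Dm → Sm := Sum.elim (fun x => ⟨x.1, d + 1, x.2, by omega, hbound⟩)
    (fun x => ⟨x.1, d, x.2, by omega, lt_of_le_of_lt (Nat.mul_le_mul_left _ (Nat.le_succ d)) hbound⟩)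
  have hι : Function.Injective ι := by
    rintro (x | x) (y | y) e
    · exact congrArg Sum.inl (Subtype.ext (congrArg (fun z : Sm => z.1) e))
    · have := x.2; rw [show x.1 = y.1 from congrArg (fun z : Sm => z.1) e, y.2] at this
      exact absurd (Nat.cast_injective this) (by omega)
    · have := x.2; rw [show x.1 = y.1 from congrArg (fun z : Sm => z.1) e, y.2] at this
      exact absurd (Nat.cast_injective this) (by omega)
    · exact congrArg Sum.inr (Subtype.ext (congrArg (fun z : Sm => z.1) e))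
  have hsum : Nat.card Dp + Nat.card Dm ≤ Nat.card Sm := by
    rw [← Nat.card_sum]; exact Nat.card_le_card_of_injective ι hι
  have hp : 2 ≤ Nat.card Dp := hpos
  have hm : 2 ≤ Nat.card Dm := hneg
  refine ⟨show Nat.card Dp = 2 by omega, show Nat.card Dm = 2 by omega, ?_⟩
  intro χ
  obtain ⟨k, ρ, hρ, hχ⟩ := χ.2
  refine ⟨k, by rw [← hχ, Representation.char_one, Module.finrank_fin_fun], ?_⟩
  by_contra hcon
  push Not at hcon
  obtain ⟨hk1, hkp, hkm, hklt⟩ := hcon
  have hk0 : k ≠ 0 := by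
    rintro rfl
    haveI := hρ
    haveI := Char.nontrivial_of_isIrreducible ρ
    exact not_subsingleton (Fin 0 → ℂ) inferInstance
  have hχ1 : (χ : G → ℂ) 1 = (k : ℂ) := by rw [← hχ, Representation.char_one, Module.finrank_fin_fun]
  have hbij : Function.Bijective ι := (Nat.bijective_iff_injective_and_card _).2 ⟨hι, by rw [Nat.card_sum]; omega⟩
  obtain ⟨x, hx⟩ := hbij.2 ⟨χ, k, hχ1, by omega, hklt⟩
  have hx' : (ι x).1 = χ := congrArg (fun z : Sm => z.1) hx
  rcases x with x | x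
  · have := x.2
    rw [show x.1 = χ from hx', hχ1] at this
    exact hkp (Nat.cast_injective this)
  · have := x.2
    rw [show x.1 = χ from hx', hχ1] at this
    exact hkm (Nat.cast_injective this)

end Cfsg.Agent.WeilUniq
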