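import Cfsg.Agent.Lib.WeilUniq.Elements
import Mathlib.RepresentationTheory.Character
import Mathlib.Analysis.Complex.Basic

/-!
Weight spaces of the radical of the Siegel parabolic in a complex representation.
-/

set_option autoImplicit false

open Matrix
open Cfsg.Agent.Weil (SymMat)

namespace Cfsg.Agent.WeilUniq

variable {F : Type*} [Field F] {n : ℕ} {U : Type*} [AddCommGroup U] [Module ℂ U]
  {ρ : Representation ℂ (Matrix.symplecticGroup (Fin n) F) U}

theorem rho_mul (g h : Matrix.symplecticGroup (Fin n) F) (v : U) : ρ (g * h) v = ρ g (ρ h v) := by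
  rw [map_mul, Module.End.mul_apply]

theorem rho_inj {g : Matrix.symplecticGroup (Fin n) F} {v w : U} (h : ρ g v = ρ g w) : v = w := by
  have := congrArg (ρ g⁻¹) h
  rwa [← rho_mul, ← rho_mul, inv_mul_cancel, map_one, Module.End.one_apply, Module.End.one_apply] at this

variable (ρ) in
/-- The weight space of a character of the radical. -/
def Wt (φ : AddChar (SymMat F n) ℂ) : Submodule ℂ U where
  carrier := {v | ∀ S, ρ (rd S) v = φ S • v}
  add_mem' := fun ha hb S => by rw [map_add, ha S, hb S, smul_add]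
  zero_mem' := fun S => by simp
  smul_mem' := fun a v hv S => by rw [map_smul, hv S, smul_comm]

theorem mem_Wt {φ : AddChar (SymMat F n) ℂ} {v : U} : v ∈ Wt ρ φ ↔ ∀ S, ρ (rd S) v = φ S • v := Iff.rfl

variable (ψ : AddChar F ℂ)

/-- The character `S ↦ ψ (c • yᵀ S y)`. -/
def chi (c : F) (y : Fin n → F) : AddChar (SymMat F n) ℂ where
  toFun S := ψ (c * (y ⬝ᵥ (S.1 *ᵥ y)))
  map_zero_eq_one' := by simp
  map_add_eq_mul' S T := by
    rw [AddSubgroup.coe_add, Matrix.add_mulVec, dotProduct_add, mul_add, AddChar.map_add_eq_mul]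

theorem chi_apply (c : F) (y : Fin n → F) (S : SymMat F n) :
    chi ψ c y S = ψ (c * (y ⬝ᵥ (S.1 *ᵥ y))) := rfl

theorem single_mulVec' (k l : Fin n) (b : F) (y : Fin n → F) :
    single k l b *ᵥ y = Pi.single k (b * y l) := by
  funext a
  rcases eq_or_ne k a with rfl | hka
  · simp [Matrix.mulVec, dotProduct, Matrix.single_apply]
  · simp [Matrix.mulVec, dotProduct, Matrix.single_apply, hka, hka.symm]

theorem chi_offd (c : F) (y : Fin n → F) (k l : Fin n) (b : F) :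
    chi ψ c y (offd k l b) = ψ (2 * (c * y k * y l) * b) := by
  rw [chi_apply]
  congr 1
  simp [offd, Matrix.add_mulVec, dotProduct_add, single_mulVec']
  ring

theorem chi_dia (c : F) (y : Fin n → F) (k : Fin n) (b : F) :
    chi ψ c y (dia k b) = ψ (c * y k * y k * b) := by
  rw [chi_apply]
  congr 1
  simp [dia, single_mulVec']
  ring

variable {ψ}

theorem chi_cS (c : F) (y : Fin n → F) (M : Matrix (Fin n) (Fin n) F) (S : SymMat F n) :
    chi ψ c y (cS M S) = chi ψ c (M *ᵥ y) S := by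
  rw [chi_apply, chi_apply]
  congr 2
  show y ⬝ᵥ ((Mᵀ * S.1 * M) *ᵥ y) = _
  rw [← mulVec_mulVec, ← mulVec_mulVec, dotProduct_mulVec y Mᵀ, vecMul_transpose]

theorem mulShift_inj (hψ : ψ.IsPrimitive) {a b : F} (h : ∀ t, ψ (a * t) = ψ (b * t)) : a = b :=
  AddChar.to_mulShift_inj_of_isPrimitive hψ (DFunLike.ext _ _ h)

theorem chi_coeff (hψ : ψ.IsPrimitive) (h2 : (2 : F) ≠ 0) {c c' : F} {y y' : Fin n → F}
    (h : chi ψ c y = chi ψ c' y') (k l : Fin n) : c * y k * y l = c' * y' k * y' l :=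
  mul_left_cancel₀ h2 (mulShift_inj hψ fun t => by rw [← chi_offd, ← chi_offd, h])

theorem one_coeff (hψ : ψ.IsPrimitive) (h2 : (2 : F) ≠ 0) {c : F} {y : Fin n → F}
    (h : chi ψ c y = 1) (k l : Fin n) : c * y k * y l = 0 :=
  mul_left_cancel₀ h2 (mulShift_inj hψ fun t => by
    rw [← chi_offd, h, mul_zero, zero_mul, AddChar.map_zero_eq_one, AddChar.one_apply])

theorem chi_congr {c c' : F} {y y' : Fin n → F}
    (h : ∀ k l, c * y k * y l = c' * y' k * y' l) : chi ψ c y = chi ψ c' y' := by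
  refine DFunLike.ext _ _ fun S => ?_
  rw [chi_apply, chi_apply]
  congr 1
  simp only [dotProduct, Matrix.mulVec, Finset.mul_sum]
  refine Finset.sum_congr rfl fun a _ => Finset.sum_congr rfl fun b _ => ?_
  linear_combination S.1 a b * h a b

theorem chi_neg (c : F) (y : Fin n → F) : chi ψ c (-y) = chi ψ c y :=
  chi_congr fun k l => by simp

theorem chi_inj (hψ : ψ.IsPrimitive) (h2 : (2 : F) ≠ 0) {c : F} (hc : c ≠ 0) {y y' : Fin n → F}
    (h : chi ψ c y = chi ψ c y') : y = y' ∨ y = -y' := by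
  by_cases h0 : y = 0
  · left
    funext k
    have := chi_coeff hψ h2 h k k
    simp [h0, hc] at this ⊢
    exact this.symm
  obtain ⟨k, hk⟩ := Function.ne_iff.1 h0
  have h1 : y k * y k = y' k * y' k := mul_left_cancel₀ hc (by linear_combination chi_coeff hψ h2 h k k)
  rcases mul_self_eq_mul_self_iff.1 h1 with e | e
  · exact Or.inl (funext fun l => mul_left_cancel₀ (mul_ne_zero hc hk)
      (by linear_combination chi_coeff hψ h2 h k l - c * y' l * e))
  · exact Or.inr (funext fun l => mul_left_cancel₀ (mul_ne_zero hc hk)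
      (by simp only [Pi.neg_apply]; linear_combination chi_coeff hψ h2 h k l + c * y' l * e))

theorem rd_mem {φ : AddChar (SymMat F n) ℂ} {v : U} (hv : v ∈ Wt ρ φ) (S : SymMat F n) :
    ρ (rd S) v = φ S • v := hv S

theorem lv_mem_chi {c : F} {y : Fin n → F} (M : GL (Fin n) F) {v : U} (hv : v ∈ Wt ρ (chi ψ c y)) :
    ρ (lv M) v ∈ Wt ρ (chi ψ c (M.1 *ᵥ y)) := fun S => by
  rw [← rho_mul, rd_lv, rho_mul, hv, map_smul, chi_cS]

theorem lv_mem_one (M : GL (Fin n) F) {v : U} (hv : v ∈ Wt ρ (1 : AddChar (SymMat F n) ℂ)) :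
    ρ (lv M) v ∈ Wt ρ (1 : AddChar (SymMat F n) ℂ) := fun S => by
  rw [← rho_mul, rd_lv, rho_mul, hv, AddChar.one_apply, AddChar.one_apply, map_smul]

section projection

variable [Fintype F]

noncomputable instance : Fintype (SymMat F n) := Fintype.ofFinite _

variable (ρ) in
/-- The projection on a weight space. -/
noncomputable def P (φ : AddChar (SymMat F n) ℂ) : U →ₗ[ℂ] U :=
  (Fintype.card (SymMat F n) : ℂ)⁻¹ • ∑ S : SymMat F n, φ (-S) • ρ (rd S)

theorem P_apply (φ : AddChar (SymMat F n) ℂ) (v : U) :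
    P ρ φ v = (Fintype.card (SymMat F n) : ℂ)⁻¹ • ∑ S : SymMat F n, φ (-S) • ρ (rd S) v := by
  simp [P]

theorem P_mem (φ : AddChar (SymMat F n) ℂ) (v : U) : P ρ φ v ∈ Wt ρ φ := fun T => by
  rw [P_apply, map_smul, map_sum, smul_comm (φ T) ((Fintype.card (SymMat F n) : ℂ)⁻¹)]
  congr 1
  rw [Finset.smul_sum]
  refine Fintype.sum_equiv (Equiv.addLeft T) _ _ fun S => ?_
  rw [map_smul, ← rho_mul, ← rd_add, smul_smul, Equiv.coe_addLeft, ← AddChar.map_add_eq_mul, neg_add,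
    add_neg_cancel_left]

theorem sum_P (v : U) :
    ∑ φ : AddChar (SymMat F n) ℂ, P ρ φ v = v := by
  classical
  simp only [P_apply, ← Finset.smul_sum]
  rw [Finset.sum_comm]
  simp only [← Finset.sum_smul]
  rw [Finset.sum_eq_single (0 : SymMat F n) (fun S _ hS => by
    rw [AddChar.sum_apply_eq_ite, if_neg (neg_ne_zero.2 hS), zero_smul]) (by simp)]
  rw [rd_zero, map_one, Module.End.one_apply, smul_smul, neg_zero]
  simp only [AddChar.map_zero_eq_one, Finset.sum_const, Finset.card_univ, nsmul_eq_mul, mul_one]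
  rw [AddChar.card_eq, inv_mul_cancel₀ (Nat.cast_ne_zero.2 Fintype.card_ne_zero), one_smul]

theorem P_eq [DecidableEq (AddChar (SymMat F n) ℂ)] {φ φ' : AddChar (SymMat F n) ℂ} {v : U}
    (hv : v ∈ Wt ρ φ') : P ρ φ v = if φ = φ' then v else 0 := by
  rw [P_apply]
  simp only [mem_Wt.1 hv, smul_smul, ← Finset.sum_smul]
  split_ifs with h
  · subst h
    simp only [← AddChar.map_add_eq_mul, neg_add_cancel, AddChar.map_zero_eq_one, Finset.sum_const,
      Finset.card_univ, nsmul_eq_mul, mul_one]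
    rw [inv_mul_cancel₀ (Nat.cast_ne_zero.2 Fintype.card_ne_zero), one_smul]
  · have hd : φ' * φ⁻¹ ≠ 1 := fun e => h (mul_inv_eq_one.1 e).symm
    have := AddChar.sum_eq_zero_of_ne_one hd
    rw [Finset.sum_congr rfl fun S _ => show φ (-S) * φ' S = (φ' * φ⁻¹) S by
      rw [AddChar.mul_apply, AddChar.inv_apply, mul_comm], this, mul_zero, zero_smul]

theorem P_self {φ : AddChar (SymMat F n) ℂ} {v : U} (hv : v ∈ Wt ρ φ) : P ρ φ v = v := by
  classical
  rw [P_eq hv, if_pos rfl]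

theorem P_ne {φ φ' : AddChar (SymMat F n) ℂ} {v : U} (hv : v ∈ Wt ρ φ') (h : φ ≠ φ') : P ρ φ v = 0 := by
  classical
  rw [P_eq hv, if_neg h]

theorem eq_zero_of_P {v : U} (h : ∀ φ, P ρ φ v = 0) : v = 0 := by
  classical
  rw [← sum_P (ρ := ρ) v, Finset.sum_eq_zero fun φ _ => h φ]

theorem P_lv (M : GL (Fin n) F) {φ φ' : AddChar (SymMat F n) ℂ} (hφ : ∀ S, φ (cS M.1 S) = φ' S)
    (v : U) : P ρ φ' (ρ (lv M) v) = ρ (lv M) (P ρ φ v) := by
  simp only [P_apply, ← hφ, map_smul, map_sum, ← rho_mul, rd_lv]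
  congr 1
  have hinv : ∀ S : SymMat F n, cS M.1 (cS (↑M⁻¹ : Matrix (Fin n) (Fin n) F) S) = S := fun S => by
    refine Subtype.ext ?_
    show M.1ᵀ * ((↑M⁻¹ : Matrix (Fin n) (Fin n) F)ᵀ * S.1 * (↑M⁻¹ : Matrix (Fin n) (Fin n) F)) * M.1 = S.1
    rw [← Matrix.mul_assoc, ← Matrix.mul_assoc, ← transpose_mul, Units.inv_mul, transpose_one, Matrix.one_mul,
      Matrix.mul_assoc, Units.inv_mul, Matrix.mul_one]
  have hinv' : ∀ S : SymMat F n, cS (↑M⁻¹ : Matrix (Fin n) (Fin n) F) (cS M.1 S) = S := fun S => by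
    refine Subtype.ext ?_
    show (↑M⁻¹ : Matrix (Fin n) (Fin n) F)ᵀ * (M.1ᵀ * S.1 * M.1) * (↑M⁻¹ : Matrix (Fin n) (Fin n) F) = S.1
    rw [← Matrix.mul_assoc, ← Matrix.mul_assoc, ← transpose_mul, Units.mul_inv, transpose_one, Matrix.one_mul,
      Matrix.mul_assoc, Units.mul_inv, Matrix.mul_one]
  refine Fintype.sum_equiv ⟨cS M.1, cS (↑M⁻¹ : Matrix (Fin n) (Fin n) F), hinv', hinv⟩ _ _ fun S => ?_
  show φ (cS M.1 (-S)) • _ = φ (-cS M.1 S) • ρ (lv M * rd (cS M.1 S)) v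
  congr 2
  exact Subtype.ext (by simp [cS])

theorem P_lv_one (M : GL (Fin n) F) (v : U) :
    P ρ (1 : AddChar (SymMat F n) ℂ) (ρ (lv M) v) = ρ (lv M) (P ρ (1 : AddChar (SymMat F n) ℂ) v) :=
  P_lv M (fun _ => by rw [AddChar.one_apply, AddChar.one_apply]) v

theorem P_lv_chi (M : GL (Fin n) F) (c : F) (y : Fin n → F) (v : U) :
    P ρ (chi ψ c (M.1 *ᵥ y)) (ρ (lv M) v) = ρ (lv M) (P ρ (chi ψ c y) v) :=
  P_lv M (fun S => chi_cS c y M.1 S) v

theorem P_rd (φ : AddChar (SymMat F n) ℂ) (T : SymMat F n) (v : U) :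
    P ρ φ (ρ (rd T) v) = φ T • P ρ φ v := by
  rw [← P_mem φ v T, P_apply, P_apply, map_smul, map_sum]
  congr 1
  refine Finset.sum_congr rfl fun S _ => ?_
  rw [map_smul, ← rho_mul, ← rho_mul, ← rd_add, ← rd_add, add_comm]

variable (ψ) in
variable (ρ) in
/-- All weights have rank at most one. -/
def Small : Prop :=
  ∀ φ : AddChar (SymMat F n) ℂ, φ ≠ 1 → (∃ v, v ≠ 0 ∧ v ∈ Wt ρ φ) → ∃ c y, φ = chi ψ c y

end projection

end Cfsg.Agent.WeilUniq
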