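import Cfsg.Agent.Lib.WeilUniq.Exchange

/-!
The stabiliser in the Levi factor of a weight of rank one acts on its weight space by scalars.
-/

set_option autoImplicit false

open Matrix
open Cfsg.Agent.Weil (SymMat)

namespace Cfsg.Agent.WeilUniq

section ext

variable {F : Type*} [CommRing F] {n : ℕ}

/-- The extension by the identity at the index `i`. -/
def extI (i : Fin n) (A : Matrix {k // k ≠ i} {k // k ≠ i} F) : Matrix (Fin n) (Fin n) F :=
  fun a b => if h : a ≠ i ∧ b ≠ i then A ⟨a, h.1⟩ ⟨b, h.2⟩ else if a = b then 1 else 0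

theorem extI_mul (i : Fin n) (A B : Matrix {k // k ≠ i} {k // k ≠ i} F) :
    extI i (A * B) = extI i A * extI i B := by
  ext a b
  rw [Matrix.mul_apply]
  rcases eq_or_ne a i with rfl | ha
  · rw [Finset.sum_eq_single a (fun j _ hj => by simp [extI, hj.symm]) (by simp)]
    rcases eq_or_ne b a with rfl | hb <;> simp [extI, *]
  rcases eq_or_ne b i with rfl | hb
  · rw [Finset.sum_eq_single b (fun j _ hj => by simp [extI, hj]) (by simp)]
    simp [extI, ha]
  rw [show extI i (A * B) a b = (A * B) ⟨a, ha⟩ ⟨b, hb⟩ by simp [extI, ha, hb], Matrix.mul_apply,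
    ← Finset.sum_erase_add _ _ (Finset.mem_univ i), show extI i A a i * extI i B i b = 0 by simp [extI, ha],
    add_zero]
  rw [Finset.sum_subtype (p := fun j => j ≠ i) (Finset.univ.erase i) (fun j => by simp)]
  exact Finset.sum_congr rfl fun j _ => by simp [extI, ha, hb, j.2]

theorem extI_one (i : Fin n) : extI i (1 : Matrix {k // k ≠ i} {k // k ≠ i} F) = 1 := by
  ext a b
  rcases eq_or_ne a b with rfl | hab
  · by_cases ha : a ≠ i <;> simp [extI, ha]
  · by_cases h : a ≠ i ∧ b ≠ i <;> simp [extI, h, hab, Matrix.one_apply]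

theorem extI_transvection (i : Fin n) {k l : {k // k ≠ i}} (h : k ≠ l) (x : F) :
    extI i (transvection k l x) = transvection k.1 l.1 x := by
  ext a b
  by_cases hc : a ≠ i ∧ b ≠ i
  · simp [extI, hc, transvection, Matrix.one_apply, Matrix.single_apply, Subtype.ext_iff]
  · have : ¬ (k.1 = a ∧ l.1 = b) := fun e => hc ⟨e.1 ▸ k.2, e.2 ▸ l.2⟩
    simp [extI, hc, transvection, Matrix.one_apply, Matrix.single_apply, this]

theorem extI_diagonal (i : Fin n) (d : {k // k ≠ i} → F) :
    extI i (diagonal d) = diagonal fun a => if h : a ≠ i then d ⟨a, h⟩ else 1 := by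
  ext a b
  rcases eq_or_ne a b with rfl | hab
  · by_cases ha : a ≠ i <;> simp [extI, ha]
  · by_cases h : a ≠ i ∧ b ≠ i <;> simp [extI, h, hab, Subtype.ext_iff]

/-- The identity with the row `i` altered off the diagonal. -/
def rowI (i : Fin n) (r : Fin n → F) : Matrix (Fin n) (Fin n) F :=
  1 + vecMulVec (Pi.single i 1) (Function.update r i 0)

theorem rowI_add (i : Fin n) (r r' : Fin n → F) : rowI i (r + r') = rowI i r * rowI i r' := by
  have h0 : vecMulVec (Pi.single i (1 : F)) (Function.update r i 0) *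
      vecMulVec (Pi.single i 1) (Function.update r' i 0) = 0 := by
    rw [vecMulVec_mul_vecMulVec]
    simp
  have h1 : Function.update (r + r') i 0 = Function.update r i 0 + Function.update r' i 0 := by
    funext a
    rcases eq_or_ne a i with rfl | ha <;> simp [*]
  rw [rowI, rowI, rowI, h1, vecMulVec_add, add_mul, mul_add, mul_add, one_mul, one_mul, mul_one, h0, add_zero]
  abel

theorem rowI_single {i l : Fin n} (h : i ≠ l) (x : F) : rowI i (Pi.single l x) = transvection i l x := by
  have : Function.update (Pi.single l x) i 0 = (Pi.single l x : Fin n → F) := by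
    funext a
    rcases eq_or_ne a i with rfl | ha <;> simp [*]
  ext a b
  simp [rowI, this, transvection, vecMulVec_apply, Matrix.single_apply, Pi.single_apply]
  rcases eq_or_ne a i with rfl | ha <;> rcases eq_or_ne b l with rfl | hb <;> simp [*, Ne.symm]

theorem eq_extI_mul_rowI (i : Fin n) (M : Matrix (Fin n) (Fin n) F) (hM : ∀ a, M a i = if a = i then 1 else 0) :
    M = extI i (M.submatrix Subtype.val Subtype.val) * rowI i (fun b => M i b) := by
  ext a b
  rw [Matrix.mul_apply]
  rcases eq_or_ne a i with rfl | ha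
  · rw [Finset.sum_eq_single a (fun j _ hj => by simp [extI, hj.symm]) (by simp)]
    rcases eq_or_ne b a with rfl | hb
    · simp [extI, rowI, vecMulVec_apply, hM]
    · simp [extI, rowI, vecMulVec_apply, hb, hb.symm]
  rcases eq_or_ne b i with rfl | hb
  · rw [hM, if_neg ha, Finset.sum_eq_single b (fun j _ hj => by simp [rowI, vecMulVec_apply, hj])
      (by simp)]
    simp [extI, ha]
  rw [Finset.sum_eq_single b (fun j _ hj => ?_) (by simp)]
  · simp [extI, rowI, vecMulVec_apply, ha, hb]
  · rcases eq_or_ne j i with rfl | hji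
    · simp [extI, ha]
    · simp [rowI, vecMulVec_apply, hji, hj]

end ext

variable {F : Type*} [Field F] [Fintype F] {n : ℕ} {U : Type*} [AddCommGroup U] [Module ℂ U]
  {ρ : Representation ℂ (Matrix.symplecticGroup (Fin n) F) U} {ψ : AddChar F ℂ}

theorem chi_zero (c : F) : chi ψ c (0 : Fin n → F) = 1 :=
  DFunLike.ext _ _ fun S => by simp [chi_apply, AddChar.one_apply]

theorem rd_fix {x : U} (S : SymMat F n) (h : ∀ φ, P ρ φ x ≠ 0 → φ S = 1) : ρ (rd S) x = x := by
  conv_lhs => rw [← sum_P (ρ := ρ) x, map_sum]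
  conv_rhs => rw [← sum_P (ρ := ρ) x]
  refine Finset.sum_congr rfl fun φ _ => ?_
  rw [P_mem φ x S]
  by_cases h0 : P ρ φ x = 0
  · rw [h0, smul_zero]
  · rw [h φ h0, one_smul]

/-- A shear into a vanishing coordinate fixes the weight space. -/
theorem sh_fix (hψ : ψ.IsPrimitive) (h2 : (2 : F) ≠ 0) (hs : Small ρ ψ) {c : F} {y : Fin n → F} {v : U}
    (hv : v ∈ Wt ρ (chi ψ c y)) {k l : Fin n} (hkl : k ≠ l) (hy : y l = 0) (b : F) :
    ρ (sh hkl b) v = v := by
  refine rho_inj (ρ := ρ) (g := wE k) ?_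
  rw [← rho_mul, ← rd_offd_wE, rho_mul]
  refine rd_fix _ fun φ hφ => ?_
  rcases coeff_of_P hψ h2 hs hv hφ with ⟨rfl, -⟩ | ⟨c', y', rfl, h⟩
  · rfl
  · have := (h l l hkl.symm hkl.symm).symm
    rw [hy, mul_zero, mul_assoc, mul_eq_zero, mul_self_eq_zero] at this
    rw [chi_offd]
    rcases this with e | e <;> rw [e] <;> simp

/-- The standard weight. -/
noncomputable abbrev chiI (ψ : AddChar F ℂ) (c : F) (i : Fin n) : AddChar (SymMat F n) ℂ :=
  chi ψ c (Pi.single i 1)

section diag

variable (hψ : ψ.IsPrimitive) (h2 : (2 : F) ≠ 0) (hs : Small ρ ψ) {c : F} (hc : c ≠ 0) {i k : Fin n}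
  (hki : k ≠ i)

variable (ρ ψ c) in
/-- Acting on the translates of the standard weight space by a fixed matrix. -/
def MatAct (g : Matrix.symplecticGroup (Fin n) F) : Prop :=
  ∃ A : F → F → ℂ, ∀ v ∈ Wt ρ (chiI ψ c i), ∀ s,
    ρ g (ρ (sh hki s) v) = ∑ t : F, A s t • ρ (sh hki t) v

theorem MatAct.one : MatAct ρ ψ c hki 1 := by
  classical
  refine ⟨fun s t => if s = t then 1 else 0, fun v _ s => ?_⟩
  simp

theorem MatAct.mul {g g' : Matrix.symplecticGroup (Fin n) F} (h : MatAct ρ ψ c hki g)
    (h' : MatAct ρ ψ c hki g') : MatAct ρ ψ c hki (g * g') := by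
  obtain ⟨A, hA⟩ := h
  obtain ⟨B, hB⟩ := h'
  refine ⟨fun s r => ∑ t, B s t * A t r, fun v hv s => ?_⟩
  rw [rho_mul, hB v hv, map_sum]
  simp only [map_smul, hA v hv, Finset.smul_sum, smul_smul, Finset.sum_smul]
  rw [Finset.sum_comm]

theorem MatAct.inv {g : Matrix.symplecticGroup (Fin n) F} (h : MatAct ρ ψ c hki g) :
    MatAct ρ ψ c hki g⁻¹ := by
  have hp : ∀ m, MatAct ρ ψ c hki (g ^ m) := fun m => by
    induction m with
    | zero => rw [pow_zero]; exact MatAct.one hki
    | succ m ih => rw [pow_succ]; exact ih.mul hki h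
  obtain ⟨m, hm⟩ : ∃ m, g ^ m = g⁻¹ := by
    refine ⟨orderOf g - 1, eq_inv_of_mul_eq_one_left ?_⟩
    rw [← pow_succ, Nat.sub_add_cancel (orderOf_pos g), pow_orderOf_eq_one]
  exact hm ▸ hp m

theorem MatAct.dia (b : F) : MatAct ρ ψ c hki (rd (dia k b)) := by
  classical
  refine ⟨fun s t => if s = t then chi ψ c (Pi.single i 1 + Pi.single k (s * (Pi.single i (1 : F) : Fin n → F) i))
    (WeilUniq.dia k b) else 0, fun v hv s => ?_⟩
  rw [mem_Wt.1 (sh_mem hki hv s)]
  simp

include hψ h2 hs hc in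
theorem MatAct.wE : MatAct ρ ψ c hki (wE k) := by
  refine ⟨fun s t => (gauss ψ c ((Pi.single i (1 : F) : Fin n → F) i))⁻¹ *
    chi ψ c (Pi.single i 1 + Pi.single k (t * (Pi.single i (1 : F) : Fin n → F) i)) (offd k i s),
    fun v hv s => ?_⟩
  rw [← rho_mul, ← rd_offd_wE hki s, rho_mul,
    wE_formula hψ h2 hs hki hc (by simp [hki]) (by simp) hv, map_smul, map_sum, Finset.smul_sum]
  refine Finset.sum_congr rfl fun t _ => ?_
  rw [mem_Wt.1 (sh_mem hki hv t), smul_smul]

include hψ h2 hs hc hki in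
/-- The diagonal elements fixing the weight act by scalars. -/
theorem diag_scalar (a : Fˣ) :
    ∃ e : ℂ, ∀ v ∈ Wt ρ (chiI ψ c i), ρ (lv (dgM (Pi.mulSingle k a))) v = e • v := by
  classical
  have hm : MatAct ρ ψ c hki (lv (dgM (Pi.mulSingle k a))) := by
    have h := dia_wE_dia (F := F) k a⁻¹
    rw [inv_inv] at h
    have hx : lv (dgM (Pi.mulSingle k a)) = rd (dia k ((a⁻¹ : Fˣ) : F)) * wE k * rd (dia k (a : F)) *
        (wE k * rd (dia k (-((a⁻¹ : Fˣ) : F))) * wE k)⁻¹ := by
      rw [h]; group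
    rw [hx]
    exact (((MatAct.dia hki _).mul hki (MatAct.wE hψ h2 hs hc hki)).mul hki (MatAct.dia hki _)).mul hki
      (((MatAct.wE hψ h2 hs hc hki).mul hki (MatAct.dia hki _)).mul hki (MatAct.wE hψ h2 hs hc hki)).inv
  obtain ⟨A, hA⟩ := hm
  refine ⟨A 0 0, fun v hv => ?_⟩
  have h := congrArg (P ρ (chiI ψ c i)) (hA v hv 0)
  have hD : (dgM (Pi.mulSingle k a)).1 *ᵥ (Pi.single i (1 : F)) = Pi.single i 1 := by
    funext l
    rw [dgM_mulVec]
    rcases eq_or_ne l i with rfl | hl
    · simp [hki]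
    · simp [hl]
  rw [sh_zero, map_one, Module.End.one_apply, P_self, map_sum, Finset.sum_eq_single 0 (fun t _ ht => ?_)
    (by simp), map_smul, sh_zero, map_one, Module.End.one_apply, P_self hv] at h
  · exact h
  · rw [map_smul, P_ne (sh_mem hki hv t) fun e => ?_, smul_zero]
    rcases chi_inj hψ h2 hc e with e | e
    · have := congrFun e k
      simp [hki] at this
      exact ht this.symm
    · have := congrFun e i
      simp [hki.symm] at this
      exact h2 (by linear_combination this)
  · have := lv_mem_chi (dgM (Pi.mulSingle k a)) hv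
    rwa [hD] at this

end diag

variable (hψ : ψ.IsPrimitive) (h2 : (2 : F) ≠ 0) (hs : Small ρ ψ) {c : F} (hc : c ≠ 0) (i : Fin n)

variable (ρ ψ c) in
/-- Matrices acting by scalars on the standard weight space. -/
def Scal (A : Matrix (Fin n) (Fin n) F) : Prop :=
  ∃ M : GL (Fin n) F, M.1 = A ∧ ∃ e : ℂ, ∀ v ∈ Wt ρ (chiI ψ c i), ρ (lv M) v = e • v

theorem Scal.mul {A B : Matrix (Fin n) (Fin n) F} (hA : Scal ρ ψ c i A) (hB : Scal ρ ψ c i B) :
    Scal ρ ψ c i (A * B) := by
  obtain ⟨M, rfl, e, he⟩ := hA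
  obtain ⟨N, rfl, f, hf⟩ := hB
  exact ⟨M * N, rfl, f * e, fun v hv => by rw [map_mul, rho_mul, hf v hv, map_smul, he v hv, smul_smul]⟩

theorem Scal.one : Scal ρ ψ c i 1 :=
  ⟨1, rfl, 1, fun v _ => by rw [map_one, map_one, Module.End.one_apply, one_smul]⟩

include hψ h2 hs in
theorem Scal.transvection {k l : Fin n} (hkl : k ≠ l) (hl : l ≠ i) (b : F) :
    Scal ρ ψ c i (Matrix.transvection k l b) :=
  ⟨shM hkl b, rfl, 1, fun v hv => by
    rw [one_smul]; exact sh_fix hψ h2 hs hv hkl (by simp [hl]) b⟩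

include hψ h2 hs hc in
theorem stab_scalar {M : GL (Fin n) F} (hM : M.1 *ᵥ Pi.single i 1 = Pi.single i 1) :
    ∃ e : ℂ, ∀ v ∈ Wt ρ (chiI ψ c i), ρ (lv M) v = e • v := by
  classical
  suffices h : Scal ρ ψ c i M.1 by
    obtain ⟨M', hM', he⟩ := h
    rwa [Units.ext hM'] at he
  have hcol : ∀ a, M.1 a i = if a = i then 1 else 0 := fun a => by
    have := congrFun hM a
    rw [Matrix.mulVec_single_one] at this
    simpa [Pi.single_apply] using this
  have hrow : ∀ r : Fin n → F, Scal ρ ψ c i (rowI i r) := by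
    intro r
    rw [← Finset.univ_sum_single r]
    refine Finset.sum_induction _ (fun r => Scal ρ ψ c i (rowI i r)) (fun a b ha hb => ?_) ?_ fun l _ => ?_
    · rw [rowI_add]; exact ha.mul i hb
    · rw [show rowI i (0 : Fin n → F) = 1 by simp [rowI]]; exact Scal.one i
    · rcases eq_or_ne i l with rfl | hl
      · rw [show rowI i (Pi.single i (r i)) = 1 by
          have h0 : Function.update (Pi.single i (r i)) i 0 = (0 : Fin n → F) := by
            funext a; rcases eq_or_ne a i with rfl | ha <;> simp [*]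
          simp [rowI, h0]]
        exact Scal.one i
      · rw [rowI_single hl]; exact Scal.transvection hψ h2 hs i hl hl.symm _
  obtain ⟨L, L', D, hLD⟩ := Pivot.exists_list_transvec_mul_diagonal_mul_list_transvec
    (M.1.submatrix (Subtype.val : {k // k ≠ i} → Fin n) Subtype.val)
  have hdec := eq_extI_mul_rowI i M.1 hcol
  rw [hdec]
  refine Scal.mul i ?_ (hrow _)
  have hlist : ∀ L : List (TransvectionStruct {k // k ≠ i} F),
      Scal ρ ψ c i (extI i (L.map TransvectionStruct.toMatrix).prod) := fun L => by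
    induction L with
    | nil => rw [List.map_nil, List.prod_nil, extI_one]; exact Scal.one i
    | cons t L ih =>
      rw [List.map_cons, List.prod_cons, extI_mul]
      refine Scal.mul i ?_ ih
      rw [TransvectionStruct.toMatrix, extI_transvection i t.hij]
      exact Scal.transvection hψ h2 hs i (fun e => t.hij (Subtype.ext e)) t.j.2 _
  rw [hLD, extI_mul, extI_mul]
  refine Scal.mul i (Scal.mul i (hlist L) ?_) (hlist L')
  have hdet : M.1.det ≠ 0 := ((Matrix.isUnit_iff_isUnit_det _).1 M.isUnit).ne_zero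
  rw [hdec, hLD, extI_mul, extI_mul, det_mul, det_mul, det_mul, extI_diagonal, det_diagonal] at hdet
  have hD : ∀ a, D a ≠ 0 := fun a h0 => by
    refine (right_ne_zero_of_mul (left_ne_zero_of_mul (left_ne_zero_of_mul hdet))) ?_
    exact Finset.prod_eq_zero (Finset.mem_univ a.1) (by simp [a.2, h0])
  have key : ∀ s : Finset {k // k ≠ i},
      Scal ρ ψ c i (extI i (diagonal fun a => if a ∈ s then D a else 1)) := fun s => by
    induction s using Finset.induction_on with
    | empty => simp only [Finset.notMem_empty, if_false, diagonal_one, extI_one]; exact Scal.one i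
    | insert a s ha ih =>
      have e : (diagonal fun b => if b ∈ insert a s then D b else 1) =
          diagonal (Pi.mulSingle a (D a)) * diagonal fun b => if b ∈ s then D b else 1 := by
        rw [diagonal_mul_diagonal]
        congr 1
        funext b
        rcases eq_or_ne b a with rfl | hb <;> simp [*]
      rw [e, extI_mul]
      refine Scal.mul i ?_ ih
      obtain ⟨f, hf⟩ := diag_scalar hψ h2 hs hc a.2 (Units.mk0 (D a) (hD a))
      refine ⟨dgM (Pi.mulSingle a.1 (Units.mk0 (D a) (hD a))), ?_, f, hf⟩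
      rw [extI_diagonal]
      show diagonal _ = diagonal _
      congr 1
      funext b
      rcases eq_or_ne b a.1 with rfl | hb
      · simp [a.2]
      · by_cases hb' : b ≠ i <;> simp [hb, hb', Subtype.ext_iff, Pi.mulSingle_apply]
  simpa using key Finset.univ

end Cfsg.Agent.WeilUniq
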